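import Mathlib
import Cfsg.Agent.H977.TwF4Two
import Cfsg.Agent.KFacts.TwF4.Full
import Cfsg.Agent.H991.TwFAb.EvenO
import Cfsg.Agent.Lib.FieldAutCard
import Cfsg.Agent.H496.TwEight.HOFacts_m3
import Cfsg.Agent.Lib.FinFast
import Cfsg.Agent.FastGrp
import Cfsg.Agent.Prune
set_option linter.all false

section
prune_inst 0x7ffcbcf8efb8afffdfff7e7faedddffc79f4ffffffdff943ffec61ff8fdf6b0289e57b8d0fe858ff0ed7e09610b87853fbffffffee6fdc7ffffd5ff45ffbee1fe5f7bd08519488340fbc2ffe03f07f8e7f3fffffffffffffffffffffffffffbeffffffffffff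

-- part: H857/Ree8/Defs
section
set_option linter.all false

/-!
# `PGL₂(13)` in `²F₄(8)` (S5936): the relations
`Rel x s w`: generators of `PGL₂(13)`: `x : z ↦ z + 1`, `s : z ↦ 2 z`, `w : z ↦ -1 / z`.
-/

set_option autoImplicit false

namespace Cfsg.Agent.H857.Ree8

/-- the standard relations of `PGL₂(13)` -/
structure Rel {G : Type*} [Group G] (x s w : G) : Prop where
  x13 : x ^ 13 = 1
  x1 : x ≠ 1
  s12 : s ^ 12 = 1
  sx : s * x * s⁻¹ = x ^ 2
  w2 : w * w = 1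
  ws : w * s * w⁻¹ = s⁻¹
  xw : (x * w) ^ 3 = 1

end Cfsg.Agent.H857.Ree8
end

-- part: H857/Ree8/Facts3
section
set_option linter.all false
open scoped Cfsg.Agent.FastGrp

-- part: H857/Ree8/Code
section
/-!
# Packed 26 × 26 matrices over the field with 8 elements
Bit `78 i + 26 k + j` of a natural number `M`: the coefficient of `θ ^ k` of the entry `(i, j)`, `θ ^ 3 = θ + 1`.
-/

set_option autoImplicit false
set_option linter.unusedSectionVars false

namespace Cfsg.Agent.H857.Ree8.Code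

variable {K : Type*} [Field K]

/-- a bit as an element of the field -/
def bk (K : Type*) [Field K] (b : Bool) : K := cond b 1 0

theorem bk_xor [CharP K 2] (a b : Bool) : bk K (a ^^ b) = bk K a + bk K b := by
  cases a <;> cases b <;> simp [bk, CharTwo.add_self_eq_zero]

/-- the element of `K` with code `n` -/
def gf (θ : K) (n : ℕ) : K := bk K (n.testBit 0) + bk K (n.testBit 1) * θ + bk K (n.testBit 2) * θ ^ 2

/-- the entry at position `p` -/
def co (θ : K) (M p : ℕ) : K := bk K (M.testBit p) + bk K (M.testBit (p + 26)) * θ + bk K (M.testBit (p + 52)) * θ ^ 2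

/-- the matrix -/
def sem (θ : K) (M : ℕ) : Matrix (Fin 26) (Fin 26) K := Matrix.of fun i j => co θ M (78 * i.val + j.val)

theorem sem_apply (θ : K) (M : ℕ) (i j : Fin 26) : sem θ M i j = co θ M (78 * i.val + j.val) := rfl

theorem co_zero (θ : K) (p : ℕ) : co θ 0 p = 0 := by simp [co, bk]

theorem sem_zero (θ : K) : sem θ 0 = 0 := by
  ext i j
  rw [sem_apply, co_zero, Matrix.zero_apply]

theorem co_xor [CharP K 2] (θ : K) (M N p : ℕ) : co θ (M ^^^ N) p = co θ M p + co θ N p := by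
  unfold co
  simp only [Nat.testBit_xor, bk_xor]
  ring

theorem sem_xor [CharP K 2] (θ : K) (M N : ℕ) : sem θ (M ^^^ N) = sem θ M + sem θ N := by
  ext i j
  rw [Matrix.add_apply, sem_apply, sem_apply, sem_apply, co_xor]

/-- plane masks -/
def m2 : ℕ := 30819898214101877717548655334362933820348322521987963637681909519882540036817827258736193183656635753486286340195407762111816839157022426206153546622976513448471203470414782703266924524317100828145983333595474255405127381268552883480659175933531725524581092476013759160160291158886761252794888410866520845197461205429144465628798695010878743285929504514052629455136206300227830095309247494027321180981985602216091804461178135362042922093993558013703732538557009357341800237134898720559374102043193945516494898114301952206190773493682018524882533733248223171918873490759074740315250522912147256714548051055738880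
/-- plane masks -/
def m01 : ℕ := 459252278109701707718644146220053234131717141220840835066608715855809784753361357600953076335755426192727239732675513367857529614938301554758752882532965409009082169441117648220424007214376502054572925143662553186132016799748632829928204734656256201007754994886172617368049832574078464020548970626590863468595121150235654596678578739523953781042098114084748175622809723875703306974270883806414423543831446574939515622036179382395429856125475208819278080546706285628563744210163012355139624775748991382880739606951224613915864832288234994387164066767526242681490938234085573526660751749359933773448216575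

theorem mask_bit : ∀ i < 27, ∀ j < 26, (m2.testBit (78 * i + j) = false ∧ m2.testBit (78 * i + 26 + j) = false ∧
    m2.testBit (78 * i + 52 + j) = decide (i < 26)) ∧ (m01.testBit (78 * i + j) = decide (i < 26) ∧
    m01.testBit (78 * i + 26 + j) = decide (i < 26) ∧ m01.testBit (78 * i + 52 + j) = false) := by
  (refine of_decide_eq_true ?_; (try (rewrite [Cfsg.Agent.LsF.nadd_pat, Cfsg.Agent.LsF.nmul_pat, Cfsg.Agent.LsF.decLt_eq, Cfsg.Agent.LsF.testBit_eq, Cfsg.Agent.LsF.dAnd_eq, Cfsg.Agent.LsF.dBoolEq_eq, Cfsg.Agent.LsF.dBallLT_eq, Cfsg.Agent.LsF.decide_eq])); decide +kernel)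

/-- multiplication by `θ` -/
def th (M : ℕ) : ℕ :=
  match M with
  | 0 => 0
  | M => Nat.xor (Nat.xor (Nat.shiftRight (Nat.land M m2) 52) (Nat.shiftRight (Nat.land M m2) 26))
    (Nat.shiftLeft (Nat.land M m01) 26)

theorem th_eq (M : ℕ) : th M = ((((M &&& m2) >>> 52) ^^^ ((M &&& m2) >>> 26)) ^^^ ((M &&& m01) <<< 26)) := by
  cases M with
  | zero => simp [th]
  | succ M => rfl

theorem th_bit (M p : ℕ) : (th M).testBit p = (((M.testBit (52 + p) && m2.testBit (52 + p)) ^^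
    (M.testBit (26 + p) && m2.testBit (26 + p))) ^^ (decide (p ≥ 26) && (M.testBit (p - 26) && m01.testBit (p - 26)))) := by
  rw [th_eq, Nat.testBit_xor, Nat.testBit_xor, Nat.testBit_shiftRight, Nat.testBit_shiftRight, Nat.testBit_shiftLeft,
    Nat.testBit_and, Nat.testBit_and, Nat.testBit_and]

theorem co_th [CharP K 2] {θ : K} (hθ : θ ^ 3 = θ + 1) (M i j : ℕ) (hi : i < 26) (hj : j < 26) :
    co θ (th M) (78 * i + j) = θ * co θ M (78 * i + j) := by
  have h0 : (th M).testBit (78 * i + j) = M.testBit (78 * i + j + 52) := by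
    rw [th_bit]
    obtain ⟨⟨a1, a2, a3⟩, b1, b2, b3⟩ := mask_bit i (by omega) j hj
    have e1 : 52 + (78 * i + j) = 78 * i + 52 + j := by ring
    have e2 : 26 + (78 * i + j) = 78 * i + 26 + j := by ring
    rw [e1, e2, a3, a2, show 78 * i + j + 52 = 78 * i + 52 + j by ring]
    have e3 : (decide (78 * i + j ≥ 26) && (M.testBit (78 * i + j - 26) && m01.testBit (78 * i + j - 26))) = false := by
      rcases Nat.eq_zero_or_pos i with h | h
      · subst h
        have : ¬ (78 * 0 + j ≥ 26) := by omega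
        rw [decide_eq_false this, Bool.false_and]
      · obtain ⟨i', rfl⟩ : ∃ i', i = i' + 1 := ⟨i - 1, by omega⟩
        have e : 78 * (i' + 1) + j - 26 = 78 * i' + 52 + j := by omega
        rw [e, (mask_bit i' (by omega) j hj).2.2.2]
        simp
    rw [e3]
    simp [hi]
  have h1 : (th M).testBit (78 * i + j + 26) = (M.testBit (78 * i + j + 52) ^^ M.testBit (78 * i + j)) := by
    rw [th_bit]
    obtain ⟨⟨a1, a2, a3⟩, b1, b2, b3⟩ := mask_bit i (by omega) j hj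
    have e1 : 52 + (78 * i + j + 26) = 78 * (i + 1) + j := by ring
    have e2 : 26 + (78 * i + j + 26) = 78 * i + 52 + j := by ring
    have e3 : 78 * i + j + 26 - 26 = 78 * i + j := by omega
    have e4 : 78 * i + j + 26 ≥ 26 := by omega
    rw [e1, e2, e3, a3, b1, (mask_bit (i + 1) (by omega) j hj).1.1, show 78 * i + j + 52 = 78 * i + 52 + j by ring]
    simp [hi]
  have h2 : (th M).testBit (78 * i + j + 52) = M.testBit (78 * i + j + 26) := by
    rw [th_bit]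
    obtain ⟨⟨a1, a2, a3⟩, b1, b2, b3⟩ := mask_bit i (by omega) j hj
    have e1 : 52 + (78 * i + j + 52) = 78 * (i + 1) + 26 + j := by ring
    have e2 : 26 + (78 * i + j + 52) = 78 * (i + 1) + j := by ring
    have e3 : 78 * i + j + 52 - 26 = 78 * i + 26 + j := by omega
    obtain ⟨⟨c1, c2, c3⟩, -⟩ := mask_bit (i + 1) (by omega) j hj
    rw [e1, e2, e3, b2, c1, c2, show 78 * i + j + 26 = 78 * i + 26 + j by ring]
    simp [hi]
  unfold co
  rw [h0, h1, h2, bk_xor]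
  linear_combination (-bk K (M.testBit (78 * i + j + 52))) * hθ

theorem sem_th [CharP K 2] {θ : K} (hθ : θ ^ 3 = θ + 1) (M : ℕ) : sem θ (th M) = θ • sem θ M := by
  ext i j
  rw [Matrix.smul_apply, sem_apply, sem_apply, co_th hθ M _ _ i.2 j.2, smul_eq_mul]

/-- multiplication by the element with code `n` -/
def sm (n M : ℕ) : ℕ :=
  match M with
  | 0 => 0
  | M => Nat.xor (cond (Nat.testBit n 0) M 0)
    (Nat.xor (cond (Nat.testBit n 1) (th M) 0) (cond (Nat.testBit n 2) (th (th M)) 0))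

theorem sm_eq (n M : ℕ) : sm n M = (cond (Nat.testBit n 0) M 0) ^^^ ((cond (Nat.testBit n 1) (th M) 0) ^^^
    (cond (Nat.testBit n 2) (th (th M)) 0)) := by
  cases M with
  | zero => cases n.testBit 0 <;> cases n.testBit 1 <;> cases n.testBit 2 <;> simp [sm, th]
  | succ M => rfl

theorem sem_sm [CharP K 2] {θ : K} (hθ : θ ^ 3 = θ + 1) (n M : ℕ) : sem θ (sm n M) = gf θ n • sem θ M := by
  rw [sm_eq, sem_xor, sem_xor]
  unfold gf
  cases n.testBit 0 <;> cases n.testBit 1 <;> cases n.testBit 2 <;>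
    simp [bk, sem_zero, sem_th hθ, add_smul, smul_smul, pow_two, add_assoc]

/-- row `s` moved to row `u` -/
def mv (M u s : ℕ) : ℕ := Nat.shiftLeft (Nat.mod (Nat.shiftRight M (Nat.mul 78 s)) 302231454903657293676544) (Nat.mul 78 u)

theorem mv_bit (M u s i j : ℕ) (hj : j < 78) :
    (mv M u s).testBit (78 * i + j) = (decide (i = u) && M.testBit (78 * s + j)) := by
  show (((M >>> (78 * s)) % 302231454903657293676544) <<< (78 * u)).testBit (78 * i + j) = _
  rw [show (302231454903657293676544 : ℕ) = 2 ^ 78 by norm_num, Nat.testBit_shiftLeft, Nat.testBit_mod_two_pow,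
    Nat.testBit_shiftRight]
  by_cases h : i = u
  · subst h
    have h1 : 78 * i + j ≥ 78 * i := by omega
    have h2 : 78 * i + j - 78 * i = j := by omega
    simp [h1, h2, hj]
  · rcases lt_or_gt_of_ne h with h' | h'
    · have h1 : ¬ (78 * i + j ≥ 78 * u) := by omega
      simp [h, h1]
    · have h1 : ¬ (78 * i + j - 78 * u < 78) := by omega
      simp [h, h1]

theorem co_mv (θ : K) (M u s i j : ℕ) (hj : j < 26) :
    co θ (mv M u s) (78 * i + j) = if i = u then co θ M (78 * s + j) else 0 := by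
  unfold co
  rw [mv_bit M u s i j (by omega), show 78 * i + j + 26 = 78 * i + (j + 26) by ring,
    show 78 * i + j + 52 = 78 * i + (j + 52) by ring, mv_bit M u s i (j + 26) (by omega),
    mv_bit M u s i (j + 52) (by omega), show 78 * s + (j + 26) = 78 * s + j + 26 by ring,
    show 78 * s + (j + 52) = 78 * s + j + 52 by ring]
  by_cases h : i = u <;> simp [h, bk]

/-- the product of a sparse 0-1 matrix and a packed matrix -/
def lmul (l : List (ℕ × ℕ)) (M : ℕ) : ℕ := l.foldr (fun e acc => Nat.xor acc (mv M e.1 e.2)) 0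

/-- the matrix of a list of positions -/
def sp (K : Type*) [Field K] (l : List (ℕ × ℕ)) : Matrix (Fin 26) (Fin 26) K :=
  Matrix.of fun i j => (l.count (i.val, j.val) : K)

theorem sem_mv (θ : K) (M u s : ℕ) (hs : s < 26) : sem θ (mv M u s) = sp K [(u, s)] * sem θ M := by
  ext i j
  rw [sem_apply, co_mv θ M u s _ _ j.2, Matrix.mul_apply, Finset.sum_eq_single ⟨s, hs⟩]
  · simp only [sp, Matrix.of_apply, sem_apply, List.count_singleton]
    by_cases h : i.val = u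
    · simp [h]
    · have : ¬ (u = i.val) := fun e => h e.symm
      simp [h, this]
  · intro b _ hb
    have : ¬ (s = b.val) := fun e => hb (Fin.ext e.symm)
    simp [sp, Matrix.of_apply, List.count_singleton, this]
  · intro h
    exact absurd (Finset.mem_univ _) h

theorem sp_cons (e : ℕ × ℕ) (l : List (ℕ × ℕ)) : sp K (e :: l) = sp K [e] + sp K l := by
  ext i j
  simp only [sp, Matrix.of_apply, Matrix.add_apply]
  rw [show e :: l = [e] ++ l from rfl, List.count_append]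
  push_cast
  rfl

theorem sem_lmul [CharP K 2] (θ : K) (l : List (ℕ × ℕ)) (hl : ∀ e ∈ l, e.2 < 26) (M : ℕ) :
    sem θ (lmul l M) = sp K l * sem θ M := by
  induction l with
  | nil =>
    show sem θ 0 = _
    rw [sem_zero]
    ext i j
    simp [sp, Matrix.mul_apply]
  | cons e l ih =>
    show sem θ ((lmul l M) ^^^ (mv M e.1 e.2)) = _
    rw [sem_xor, ih (fun x hx => hl x (List.mem_cons_of_mem _ hx)), sem_mv θ M e.1 e.2 (hl e (List.mem_cons_self ..)),
      sp_cons e l, Matrix.add_mul, add_comm]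

end Cfsg.Agent.H857.Ree8.Code
end

-- part: H857/Ree8/Root
section
/-!
# The root elements of `²F₄(8)` as packed 26 × 26 matrices
-/

set_option autoImplicit false
set_option linter.unusedSectionVars false
set_option maxRecDepth 20000

namespace Cfsg.Agent.H857.Ree8.Root

open Cfsg.Lie Cfsg.Agent.ChevalleyStructure.TwF4.Tables
open Cfsg.Agent.ChevalleyStructure.TwF4.Bits hiding lmul sem sem_zero sem_xor sem_lmul sem_apply
open Cfsg.Agent.ChevalleyStructure.TwF4.Rel hiding sp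
open Cfsg.Agent.ChevalleyStructure.TwF4.Fix
open Cfsg.Agent.ChevalleyStructure.TwF4.TwistedFix
open Cfsg.Agent.Octagon.KRel
open Cfsg.Agent.KFacts.TwF4.Inst (oA oB eA eB eC eD)
open Cfsg.Agent.H857.Ree8.Code

def oE0 : List (ℕ × ℕ) := [(1, 0), (9, 5), (10, 6), (11, 7), (12, 8), (17, 13), (18, 14), (19, 15), (20, 16), (25,
  24)]
def oF0 : List (ℕ × ℕ) := [(17, 8)]
def oG0 : List (ℕ × ℕ) := [(4, 3), (6, 5), (10, 9), (16, 15), (20, 19), (22, 21)]
def eE0 : List (ℕ × ℕ) := [(1, 2), (3, 5), (4, 6), (7, 8), (11, 12), (13, 14), (17, 18), (19, 21), (20, 22), (23, 24)]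
def eF0 : List (ℕ × ℕ) := [(11, 14)]
def eG0 : List (ℕ × ℕ) := [(2, 3), (6, 7), (10, 11), (14, 15), (18, 19), (22, 23)]
def eH0 : List (ℕ × ℕ) := [(1, 3), (2, 5), (4, 7), (6, 8), (10, 12), (13, 15), (17, 19), (18, 21), (20, 23), (22, 24)]
def eI0 : List (ℕ × ℕ) := [(10, 15)]
def eJ0 : List (ℕ × ℕ) := [(1, 5), (4, 8), (10, 14), (11, 15), (17, 21), (20, 24)]
def oE1 : List (ℕ × ℕ) := [(6, 0), (10, 1), (12, 3), (14, 5), (16, 7), (18, 9), (20, 11), (22, 13), (24, 15), (25,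
  19)]
def oF1 : List (ℕ × ℕ) := [(22, 3)]
def oG1 : List (ℕ × ℕ) := [(11, 0), (17, 2), (19, 5), (20, 6), (23, 8), (25, 14)]
def eE1 : List (ℕ × ℕ) := [(2, 0), (9, 3), (10, 4), (12, 7), (13, 7), (14, 8), (17, 11), (18, 12), (18, 13), (21, 15),
  (22, 16), (25, 23)]
def eF1 : List (ℕ × ℕ) := [(18, 7)]
def eG1 : List (ℕ × ℕ) := [(4, 2), (7, 5), (11, 9), (16, 14), (20, 18), (23, 21)]
def eH1 : List (ℕ × ℕ) := [(4, 0), (10, 2), (11, 3), (12, 5), (13, 5), (16, 8), (17, 9), (20, 12), (20, 13), (22, 14),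
  (23, 15), (25, 21)]
def eI1 : List (ℕ × ℕ) := [(20, 5)]
def eJ1 : List (ℕ × ℕ) := [(10, 0), (17, 3), (18, 5), (20, 7), (22, 8), (25, 15)]
def oE2 : List (ℕ × ℕ) := [(7, 0), (11, 1), (12, 2), (15, 5), (16, 6), (19, 9), (20, 10), (23, 13), (24, 14), (25,
  18)]
def oF2 : List (ℕ × ℕ) := [(23, 2)]
def oG2 : List (ℕ × ℕ) := [(14, 0), (18, 1), (21, 3), (22, 4), (24, 7), (25, 11)]
def eE2 : List (ℕ × ℕ) := [(4, 1), (6, 2), (7, 3), (8, 5), (13, 9), (16, 12), (20, 17), (22, 18), (23, 19), (24, 21)]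
def eF2 : List (ℕ × ℕ) := [(16, 9)]
def eG2 : List (ℕ × ℕ) := [(9, 0), (17, 4), (18, 6), (19, 7), (21, 8), (25, 16)]
def eH2 : List (ℕ × ℕ) := [(13, 0), (17, 1), (18, 2), (19, 3), (20, 4), (21, 5), (22, 6), (23, 7), (24, 8), (25, 12)]
def eI2 : List (ℕ × ℕ) := [(25, 0)]
def eJ2 : List (ℕ × ℕ) := [(16, 0), (20, 1), (22, 2), (23, 3), (24, 5), (25, 9)]
def oE3 : List (ℕ × ℕ) := [(5, 0), (9, 1), (12, 4), (14, 6), (15, 7), (18, 10), (19, 11), (21, 13), (24, 16), (25,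
  20)]
def oF3 : List (ℕ × ℕ) := [(21, 4)]
def oG3 : List (ℕ × ℕ) := [(7, 1), (8, 2), (15, 9), (16, 10), (23, 17), (24, 18)]
def eE3 : List (ℕ × ℕ) := [(3, 0), (9, 2), (11, 4), (12, 6), (13, 6), (15, 8), (17, 10), (19, 12), (19, 13), (21, 14),
  (23, 16), (25, 22)]
def eF3 : List (ℕ × ℕ) := [(19, 6)]
def eG3 : List (ℕ × ℕ) := [(6, 1), (8, 3), (14, 9), (16, 11), (22, 17), (24, 19)]
def eH3 : List (ℕ × ℕ) := [(8, 0), (12, 1), (13, 1), (14, 2), (15, 3), (16, 4), (21, 9), (22, 10), (23, 11), (24, 12),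
  (24, 13), (25, 17)]
def eI3 : List (ℕ × ℕ) := [(24, 1)]
def eJ3 : List (ℕ × ℕ) := [(15, 0), (19, 1), (21, 2), (23, 4), (24, 6), (25, 10)]
def oE4 : List (ℕ × ℕ) := [(0, 1), (5, 9), (6, 10), (7, 11), (8, 13), (12, 17), (14, 18), (15, 19), (16, 20), (24,
  25)]
def oF4 : List (ℕ × ℕ) := [(8, 17)]
def oG4 : List (ℕ × ℕ) := [(3, 4), (5, 6), (9, 10), (15, 16), (19, 20), (21, 22)]
def eE4 : List (ℕ × ℕ) := [(2, 1), (5, 3), (6, 4), (8, 7), (13, 11), (14, 12), (18, 17), (21, 19), (22, 20), (24, 23)]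
def eF4 : List (ℕ × ℕ) := [(14, 11)]
def eG4 : List (ℕ × ℕ) := [(3, 2), (7, 6), (11, 10), (15, 14), (19, 18), (23, 22)]
def eH4 : List (ℕ × ℕ) := [(3, 1), (5, 2), (7, 4), (8, 6), (13, 10), (15, 12), (19, 17), (21, 18), (23, 20), (24, 22)]
def eI4 : List (ℕ × ℕ) := [(15, 10)]
def eJ4 : List (ℕ × ℕ) := [(5, 1), (8, 4), (14, 10), (15, 11), (21, 17), (24, 20)]
def oE5 : List (ℕ × ℕ) := [(0, 6), (1, 10), (3, 13), (5, 14), (7, 16), (9, 18), (11, 20), (12, 22), (15, 24), (19,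
  25)]
def oF5 : List (ℕ × ℕ) := [(3, 22)]
def oG5 : List (ℕ × ℕ) := [(0, 11), (2, 17), (5, 19), (6, 20), (8, 23), (14, 25)]
def eE5 : List (ℕ × ℕ) := [(0, 2), (3, 9), (4, 10), (7, 12), (7, 13), (8, 14), (11, 17), (12, 18), (13, 18), (15, 21),
  (16, 22), (23, 25)]
def eF5 : List (ℕ × ℕ) := [(7, 18)]
def eG5 : List (ℕ × ℕ) := [(2, 4), (5, 7), (9, 11), (14, 16), (18, 20), (21, 23)]
def eH5 : List (ℕ × ℕ) := [(0, 4), (2, 10), (3, 11), (5, 12), (5, 13), (8, 16), (9, 17), (12, 20), (13, 20), (14, 22),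
  (15, 23), (21, 25)]
def eI5 : List (ℕ × ℕ) := [(5, 20)]
def eJ5 : List (ℕ × ℕ) := [(0, 10), (3, 17), (5, 18), (7, 20), (8, 22), (15, 25)]
def oE6 : List (ℕ × ℕ) := [(0, 7), (1, 11), (2, 13), (5, 15), (6, 16), (9, 19), (10, 20), (12, 23), (14, 24), (18,
  25)]
def oF6 : List (ℕ × ℕ) := [(2, 23)]
def oG6 : List (ℕ × ℕ) := [(0, 14), (1, 18), (3, 21), (4, 22), (7, 24), (11, 25)]
def eE6 : List (ℕ × ℕ) := [(1, 4), (2, 6), (3, 7), (5, 8), (9, 12), (13, 16), (17, 20), (18, 22), (19, 23), (21, 24)]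
def eF6 : List (ℕ × ℕ) := [(9, 16)]
def eG6 : List (ℕ × ℕ) := [(0, 9), (4, 17), (6, 18), (7, 19), (8, 21), (16, 25)]
def eH6 : List (ℕ × ℕ) := [(0, 12), (1, 17), (2, 18), (3, 19), (4, 20), (5, 21), (6, 22), (7, 23), (8, 24), (13, 25)]
def eI6 : List (ℕ × ℕ) := [(0, 25)]
def eJ6 : List (ℕ × ℕ) := [(0, 16), (1, 20), (2, 22), (3, 23), (5, 24), (9, 25)]
def oE7 : List (ℕ × ℕ) := [(0, 5), (1, 9), (4, 13), (6, 14), (7, 15), (10, 18), (11, 19), (12, 21), (16, 24), (20,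
  25)]
def oF7 : List (ℕ × ℕ) := [(4, 21)]
def oG7 : List (ℕ × ℕ) := [(1, 7), (2, 8), (9, 15), (10, 16), (17, 23), (18, 24)]
def eE7 : List (ℕ × ℕ) := [(0, 3), (2, 9), (4, 11), (6, 12), (6, 13), (8, 15), (10, 17), (12, 19), (13, 19), (14, 21),
  (16, 23), (22, 25)]
def eF7 : List (ℕ × ℕ) := [(6, 19)]
def eG7 : List (ℕ × ℕ) := [(1, 6), (3, 8), (9, 14), (11, 16), (17, 22), (19, 24)]
def eH7 : List (ℕ × ℕ) := [(0, 8), (1, 12), (1, 13), (2, 14), (3, 15), (4, 16), (9, 21), (10, 22), (11, 23), (12, 24),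
  (13, 24), (17, 25)]
def eI7 : List (ℕ × ℕ) := [(1, 24)]
def eJ7 : List (ℕ × ℕ) := [(0, 15), (1, 19), (2, 21), (4, 23), (6, 24), (10, 25)]

def oE : ℕ → List (ℕ × ℕ)
  | 0 => oE0
  | 1 => oE1
  | 2 => oE2
  | 3 => oE3
  | 4 => oE4
  | 5 => oE5
  | 6 => oE6
  | _ => oE7
def oF : ℕ → List (ℕ × ℕ)
  | 0 => oF0
  | 1 => oF1
  | 2 => oF2
  | 3 => oF3
  | 4 => oF4
  | 5 => oF5
  | 6 => oF6
  | _ => oF7
def oG : ℕ → List (ℕ × ℕ)
  | 0 => oG0
  | 1 => oG1
  | 2 => oG2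
  | 3 => oG3
  | 4 => oG4
  | 5 => oG5
  | 6 => oG6
  | _ => oG7
def eE : ℕ → List (ℕ × ℕ)
  | 0 => eE0
  | 1 => eE1
  | 2 => eE2
  | 3 => eE3
  | 4 => eE4
  | 5 => eE5
  | 6 => eE6
  | _ => eE7
def eF : ℕ → List (ℕ × ℕ)
  | 0 => eF0
  | 1 => eF1
  | 2 => eF2
  | 3 => eF3
  | 4 => eF4
  | 5 => eF5
  | 6 => eF6
  | _ => eF7
def eG : ℕ → List (ℕ × ℕ)
  | 0 => eG0
  | 1 => eG1
  | 2 => eG2
  | 3 => eG3
  | 4 => eG4
  | 5 => eG5
  | 6 => eG6
  | _ => eG7
def eH : ℕ → List (ℕ × ℕ)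
  | 0 => eH0
  | 1 => eH1
  | 2 => eH2
  | 3 => eH3
  | 4 => eH4
  | 5 => eH5
  | 6 => eH6
  | _ => eH7
def eI : ℕ → List (ℕ × ℕ)
  | 0 => eI0
  | 1 => eI1
  | 2 => eI2
  | 3 => eI3
  | 4 => eI4
  | 5 => eI5
  | 6 => eI6
  | _ => eI7
def eJ : ℕ → List (ℕ × ℕ)
  | 0 => eJ0
  | 1 => eJ1
  | 2 => eJ2
  | 3 => eJ3
  | 4 => eJ4
  | 5 => eJ5
  | 6 => eJ6
  | _ => eJ7

/-- check of the tables of a root -/
def chkR (r : ℕ) (E F : List (ℕ × ℕ)) : Bool :=
  (E.all fun e => Nat.blt e.2 26) && (F.all fun e => Nat.blt e.2 26) &&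
  (List.range 26).all fun i => (List.range 26).all fun j =>
    Nat.beq (E.count (i, j)) (cond (bitAt (PE r) (nthN ioN i) (nthN ioN j)) 1 0) &&
    Nat.beq (F.count (i, j)) (cond (bitAt (PF r) (nthN ioN i) (nthN ioN j)) 1 0)

/-- the check for one index -/
def chkA (a : ℕ) : Bool :=
  chkR (oA (a : ZMod 8)) (oE a) (oF a) && chkR (oB (a : ZMod 8)) (oG a) [] && chkR (eA (a : ZMod 8)) (eE a) (eF a) &&
    chkR (eB (a : ZMod 8)) (eG a) [] && chkR (eC (a : ZMod 8)) (eH a) (eI a) && chkR (eD (a : ZMod 8)) (eJ a) []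

/-- position in the packed `52 × 52` matrix -/
private def ps (e : ℕ × ℕ) : ℕ := Nat.add (Nat.mul 52 (nthN ioN e.1)) (nthN ioN e.2)

/-- the set of the positions -/
private noncomputable def cdE (E : List (ℕ × ℕ)) : ℕ := List.rec 0 (fun e _ ih => Nat.lor ih (Nat.shiftLeft 1 (ps e))) E

/-- the positions are in range and different -/
private noncomputable def okE (E : List (ℕ × ℕ)) : Bool :=
  List.rec true (fun e l ih => Nat.blt e.1 26 && (Nat.blt e.2 26 && (!((cdE l).testBit (ps e)) && ih))) E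

/-- all positions -/
private def mM : ℕ := 0x11fe381c7f88300000000000000000000000000000000000000011fe381c7f88311fe381c7f88311fe381c7f88311fe381c7f88311fe381c7f88311fe381c7f88311fe381c7f88311fe381c7f88300000000000000000000000000000000000000011fe381c7f88311fe381c7f88311fe381c7f88300000000000000000000000000000000000000000000000000000000000000000000000000000011fe381c7f88311fe381c7f88311fe381c7f88300000000000000000000000000000000000000011fe381c7f88311fe381c7f88311fe381c7f88311fe381c7f88311fe381c7f88311fe381c7f88311fe381c7f88311fe381c7f88300000000000000000000000000000000000000011fe381c7f8830000000000000000000000000000000000000000000000000000000000000000011fe381c7f88311fe381c7f883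

private noncomputable def _root_.Cfsg.Agent.LsF.fccbb44_0 : {f // @Cfsg.Agent.ChevalleyStructure.TwF4.Rel.nthN = f} := ⟨_, by first | (delta Cfsg.Agent.ChevalleyStructure.TwF4.Rel.nthN List.brecOn List.brecOn.go Cfsg.Agent.ChevalleyStructure.TwF4.Rel.nthN._f; (try delta Cfsg.Agent.ChevalleyStructure.TwF4.Rel.nthN.match_1); (try delta List.casesOn Nat.casesOn); first | dsimp -zeta only | exact rfl) | exact rfl⟩
private noncomputable def _root_.Cfsg.Agent.LsF.fccbb44_1 : {f // @Cfsg.Agent.H857.Ree8.Root.ps = f} := ⟨_, by first | (delta Cfsg.Agent.H857.Ree8.Root.ps; rewrite [Cfsg.Agent.LsF.fccbb44_0.2]; exact rfl) | exact rfl⟩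
private theorem mM_bit : ∀ i < 26, ∀ j < 26, mM.testBit (ps (i, j)) = true := by (refine of_decide_eq_true ?_; (try (rewrite [Cfsg.Agent.LsF.fccbb44_1.2, Cfsg.Agent.LsF.testBit_eq, Cfsg.Agent.LsF.dBoolEq_eq, Cfsg.Agent.LsF.dBallLT_eq, Cfsg.Agent.LsF.decide_eq])); decide +kernel)

private theorem io_lt : ∀ i < 26, nthN ioN i < 52 ∧ ∀ j < 26, nthN ioN i = nthN ioN j → i = j := by decide +kernel

private theorem ps_inj {a b i j : ℕ} (ha : a < 26) (hb : b < 26) (hi : i < 26) (hj : j < 26) (h : ps (a, b) = ps (i, j)) :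
    (a, b) = (i, j) := by
  have h1 : 52 * nthN ioN a + nthN ioN b = 52 * nthN ioN i + nthN ioN j := h
  have h2 := (io_lt b hb).1
  have h3 := (io_lt j hj).1
  rw [(io_lt a ha).2 i hi (by omega), (io_lt b hb).2 j hj (by omega)]

private theorem okE_spec {E : List (ℕ × ℕ)} (h : okE E = true) : (E.all fun e => Nat.blt e.2 26) = true ∧
    ∀ i < 26, ∀ j < 26, E.count (i, j) = cond ((cdE E).testBit (ps (i, j))) 1 0 := by
  induction E with
  | nil => exact ⟨rfl, fun i _ j _ => by rw [show cdE [] = 0 from rfl, Nat.zero_testBit]; rfl⟩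
  | cons e l ih =>
    obtain ⟨a, b⟩ := e
    have h1 : (Nat.blt a 26 && (Nat.blt b 26 && (!((cdE l).testBit (ps (a, b))) && okE l))) = true := h
    simp only [Bool.and_eq_true, Bool.not_eq_true', Nat.blt_eq] at h1
    obtain ⟨ha, hb, hn, hl⟩ := h1
    obtain ⟨k1, k2⟩ := ih hl
    refine ⟨by rw [List.all_cons, k1, Bool.and_true]; exact Nat.blt_eq ▸ hb, fun i hi j hj => ?_⟩
    have e1 : (cdE ((a, b) :: l)).testBit (ps (i, j)) = ((cdE l).testBit (ps (i, j)) || decide (ps (a, b) = ps (i, j))) := by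
      show (cdE l ||| 1 <<< ps (a, b)).testBit _ = _
      rw [Nat.testBit_or, Nat.one_shiftLeft, Nat.testBit_two_pow]
    rw [List.count_cons, k2 i hi j hj, e1]
    by_cases he : (a, b) = (i, j)
    · rw [← he, hn, decide_eq_true rfl, if_pos (beq_self_eq_true _)]; rfl
    · rw [decide_eq_false fun h' => he (ps_inj ha hb hi hj h'), Bool.or_false, if_neg fun h' => he (eq_of_beq h')]; rfl

/-- the fast check of the tables of a root -/
private noncomputable def chkF (r : ℕ) (E F : List (ℕ × ℕ)) : Bool :=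
  okE E && (okE F && (Nat.beq (Nat.land (PE r) mM) (cdE E) && Nat.beq (Nat.land (PF r) mM) (cdE F)))

private theorem chkR_of {r : ℕ} {E F : List (ℕ × ℕ)} (h : chkF r E F = true) : chkR r E F = true := by
  have h1 : (okE E && (okE F && (Nat.beq (PE r &&& mM) (cdE E) && Nat.beq (PF r &&& mM) (cdE F)))) = true := h
  simp only [Bool.and_eq_true] at h1
  obtain ⟨hE, hF, e1, e2⟩ := h1
  have key : ∀ {P : ℕ} {L : List (ℕ × ℕ)}, okE L = true → Nat.beq (P &&& mM) (cdE L) = true → ∀ i < 26, ∀ j < 26,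
      Nat.beq (L.count (i, j)) (cond (bitAt P (nthN ioN i) (nthN ioN j)) 1 0) = true := by
    intro P L hL e i hi j hj
    rw [(okE_spec hL).2 i hi j hj, ← Nat.eq_of_beq_eq_true e, Nat.testBit_and, mM_bit i hi j hj, Bool.and_true]
    exact Nat.beq_refl _
  unfold chkR
  rw [(okE_spec hE).1, (okE_spec hF).1, Bool.true_and, Bool.true_and, List.all_eq_true]
  intro i hi
  rw [List.all_eq_true]
  intro j hj
  rw [key hE e1 i (List.mem_range.1 hi) j (List.mem_range.1 hj), key hF e2 i (List.mem_range.1 hi) j (List.mem_range.1 hj)]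
  rfl

private noncomputable def _root_.Cfsg.Agent.LsF.fccbb44_2 : {f // @Cfsg.Agent.H857.Ree8.Root.cdE = f} := ⟨_, by first | (delta Cfsg.Agent.H857.Ree8.Root.cdE; rewrite [Cfsg.Agent.LsF.fccbb44_1.2]; exact rfl) | exact rfl⟩
private noncomputable def _root_.Cfsg.Agent.LsF.fccbb44_3 : {f // @Cfsg.Agent.H857.Ree8.Root.okE = f} := ⟨_, by first | (delta Cfsg.Agent.H857.Ree8.Root.okE; rewrite [Cfsg.Agent.LsF.fccbb44_2.2, Cfsg.Agent.LsF.fccbb44_1.2, Cfsg.Agent.LsF.and_eq, Cfsg.Agent.LsF.not_eq, Cfsg.Agent.LsF.testBit_eq]; exact rfl) | exact rfl⟩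
private noncomputable def _root_.Cfsg.Agent.LsF.fccbb44_4 : {f // @Cfsg.Agent.ChevalleyStructure.TwF4.Bits.moveRow = f} := ⟨_, by first | (delta Cfsg.Agent.ChevalleyStructure.TwF4.Bits.moveRow; rewrite [Cfsg.Agent.LsF.nmul_pat, Cfsg.Agent.LsF.nmod_pat, Cfsg.Agent.LsF.npow_pat, Cfsg.Agent.LsF.nshl_pat, Cfsg.Agent.LsF.nshr_pat]; exact rfl) | exact rfl⟩
private noncomputable def _root_.Cfsg.Agent.LsF.fccbb44_5 : {f // @Cfsg.Agent.ChevalleyStructure.TwF4.Bits.lmul = f} := ⟨_, by first | (delta Cfsg.Agent.ChevalleyStructure.TwF4.Bits.lmul; rewrite [Cfsg.Agent.LsF.fccbb44_4.2, Cfsg.Agent.LsF.nxor_pat, Cfsg.Agent.LsF.foldr_eq]; (try delta Cfsg.Agent.ChevalleyStructure.TwF4.Bits.lmul.match_1); (try rewrite [Cfsg.Agent.LsF.instDecEq_eq, Cfsg.Agent.LsF.dite_eq]); exact rfl) | exact rfl⟩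
private noncomputable def _root_.Cfsg.Agent.LsF.fccbb44_6 : {f // @Cfsg.Agent.ChevalleyStructure.TwF4.Tables.nth = f} := ⟨_, by first | (delta Cfsg.Agent.ChevalleyStructure.TwF4.Tables.nth List.brecOn List.brecOn.go Cfsg.Agent.ChevalleyStructure.TwF4.Tables.nth._f; (try delta Cfsg.Agent.ChevalleyStructure.TwF4.Tables.nth.match_1); (try delta List.casesOn Nat.casesOn); first | dsimp -zeta only | exact rfl) | exact rfl⟩
private noncomputable def _root_.Cfsg.Agent.LsF.fccbb44_7 : {f // @Cfsg.Agent.ChevalleyStructure.TwF4.Tables.Els = f} := ⟨_, by first | (delta Cfsg.Agent.ChevalleyStructure.TwF4.Tables.Els; rewrite [Cfsg.Agent.LsF.fccbb44_6.2]; exact rfl) | exact rfl⟩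
private noncomputable def _root_.Cfsg.Agent.LsF.fccbb44_8 : {f // @Cfsg.Agent.ChevalleyStructure.TwF4.Bits.idN = f} := ⟨_, by first | (delta Cfsg.Agent.ChevalleyStructure.TwF4.Bits.idN; rewrite [Cfsg.Agent.LsF.nmul_pat, Cfsg.Agent.LsF.nxor_pat, Cfsg.Agent.LsF.nshl_pat, Cfsg.Agent.LsF.foldr_eq, Cfsg.Agent.LsF.range_eq]; exact rfl) | exact rfl⟩
private noncomputable def _root_.Cfsg.Agent.LsF.fccbb44_9 : {f // @Cfsg.Agent.ChevalleyStructure.TwF4.Fix.PE = f} := ⟨_, by first | (delta Cfsg.Agent.ChevalleyStructure.TwF4.Fix.PE; rewrite [Cfsg.Agent.LsF.fccbb44_5.2, Cfsg.Agent.LsF.fccbb44_7.2, Cfsg.Agent.LsF.fccbb44_8.2]; exact rfl) | exact rfl⟩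
private noncomputable def _root_.Cfsg.Agent.LsF.fccbb44_10 : {f // @Cfsg.Agent.ChevalleyStructure.TwF4.Tables.Fls = f} := ⟨_, by first | (delta Cfsg.Agent.ChevalleyStructure.TwF4.Tables.Fls; rewrite [Cfsg.Agent.LsF.fccbb44_6.2]; exact rfl) | exact rfl⟩
private noncomputable def _root_.Cfsg.Agent.LsF.fccbb44_11 : {f // @Cfsg.Agent.ChevalleyStructure.TwF4.Fix.PF = f} := ⟨_, by first | (delta Cfsg.Agent.ChevalleyStructure.TwF4.Fix.PF; rewrite [Cfsg.Agent.LsF.fccbb44_5.2, Cfsg.Agent.LsF.fccbb44_10.2, Cfsg.Agent.LsF.fccbb44_8.2]; exact rfl) | exact rfl⟩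
private noncomputable def _root_.Cfsg.Agent.LsF.fccbb44_12 : {f // @Cfsg.Agent.H857.Ree8.Root.chkF = f} := ⟨_, by first | (delta Cfsg.Agent.H857.Ree8.Root.chkF; rewrite [Cfsg.Agent.LsF.fccbb44_3.2, Cfsg.Agent.LsF.fccbb44_9.2, Cfsg.Agent.LsF.fccbb44_2.2, Cfsg.Agent.LsF.fccbb44_11.2, Cfsg.Agent.LsF.and_eq]; exact rfl) | exact rfl⟩
private noncomputable def _root_.Cfsg.Agent.LsF.fccbb44_13 : {f // @Cfsg.Agent.KFacts.TwF4.Inst.oA = f} := ⟨_, by first | (delta Cfsg.Agent.KFacts.TwF4.Inst.oA; rewrite [Cfsg.Agent.LsF.vecCons_eq]; exact rfl) | exact rfl⟩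
private noncomputable def _root_.Cfsg.Agent.LsF.fccbb44_14 : {f // @Cfsg.Agent.KFacts.TwF4.Inst.oB = f} := ⟨_, by first | (delta Cfsg.Agent.KFacts.TwF4.Inst.oB; rewrite [Cfsg.Agent.LsF.vecCons_eq]; exact rfl) | exact rfl⟩
private noncomputable def _root_.Cfsg.Agent.LsF.fccbb44_15 : {f // @Cfsg.Agent.KFacts.TwF4.Inst.eA = f} := ⟨_, by first | (delta Cfsg.Agent.KFacts.TwF4.Inst.eA; rewrite [Cfsg.Agent.LsF.vecCons_eq]; exact rfl) | exact rfl⟩
private noncomputable def _root_.Cfsg.Agent.LsF.fccbb44_16 : {f // @Cfsg.Agent.KFacts.TwF4.Inst.eB = f} := ⟨_, by first | (delta Cfsg.Agent.KFacts.TwF4.Inst.eB; rewrite [Cfsg.Agent.LsF.vecCons_eq]; exact rfl) | exact rfl⟩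
private noncomputable def _root_.Cfsg.Agent.LsF.fccbb44_17 : {f // @Cfsg.Agent.KFacts.TwF4.Inst.eC = f} := ⟨_, by first | (delta Cfsg.Agent.KFacts.TwF4.Inst.eC; rewrite [Cfsg.Agent.LsF.vecCons_eq]; exact rfl) | exact rfl⟩
private noncomputable def _root_.Cfsg.Agent.LsF.fccbb44_18 : {f // @Cfsg.Agent.KFacts.TwF4.Inst.eD = f} := ⟨_, by first | (delta Cfsg.Agent.KFacts.TwF4.Inst.eD; rewrite [Cfsg.Agent.LsF.vecCons_eq]; exact rfl) | exact rfl⟩
private theorem chkF_all : ∀ a < 8, (chkF (oA ((a : ℕ) : ZMod 8)) (oE a) (oF a) && chkF (oB ((a : ℕ) : ZMod 8)) (oG a) [] &&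
    chkF (eA ((a : ℕ) : ZMod 8)) (eE a) (eF a) && chkF (eB ((a : ℕ) : ZMod 8)) (eG a) [] && chkF (eC ((a : ℕ) : ZMod 8)) (eH a) (eI a) &&
    chkF (eD ((a : ℕ) : ZMod 8)) (eJ a) []) = true := by (refine of_decide_eq_true ?_; (try (rewrite [Cfsg.Agent.LsF.fccbb44_12.2, Cfsg.Agent.LsF.fccbb44_13.2, Cfsg.Agent.LsF.fccbb44_14.2, Cfsg.Agent.LsF.fccbb44_15.2, Cfsg.Agent.LsF.fccbb44_16.2, Cfsg.Agent.LsF.fccbb44_17.2, Cfsg.Agent.LsF.fccbb44_18.2, Cfsg.Agent.LsF.zcast_pat, Cfsg.Agent.LsF.and_eq, Cfsg.Agent.LsF.dBoolEq_eq, Cfsg.Agent.LsF.dBallLT_eq, Cfsg.Agent.LsF.decide_eq])); decide +kernel)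

private theorem chkA_all {a : ℕ} (ha : a < 8) : chkA a = true := by
  have h := chkF_all a ha
  simp only [Bool.and_eq_true] at h
  obtain ⟨⟨⟨⟨⟨h1, h2⟩, h3⟩, h4⟩, h5⟩, h6⟩ := h
  unfold chkA
  rw [chkR_of h1, chkR_of h2, chkR_of h3, chkR_of h4, chkR_of h5, chkR_of h6]
  rfl

theorem chk_all : ((List.range 8).all fun a =>
    chkR (oA (a : ZMod 8)) (oE a) (oF a) && chkR (oB (a : ZMod 8)) (oG a) [] && chkR (eA (a : ZMod 8)) (eE a) (eF a) &&
    chkR (eB (a : ZMod 8)) (eG a) [] && chkR (eC (a : ZMod 8)) (eH a) (eI a) && chkR (eD (a : ZMod 8)) (eJ a) []) = true := by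
  rw [List.all_eq_true]
  intro a ha
  have ha' := List.mem_range.1 ha
  exact chkA_all ha'

variable {K : Type*} [Field K] [CharP K 2]

theorem Amat_of_chk {r : ℕ} (hr : r < 48) {E F : List (ℕ × ℕ)} (h : chkR r E F = true) (t : K) :
    Amat (chevF4.x K r t) = 1 + t • Code.sp K E + t ^ 2 • Code.sp K F := by
  ext i j
  unfold chkR at h
  rw [Bool.and_eq_true, Bool.and_eq_true, List.all_eq_true] at h
  have h1 := List.all_eq_true.1 h.2 i.val (List.mem_range.2 i.2)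
  have h2 := List.all_eq_true.1 h1 j.val (List.mem_range.2 j.2)
  rw [Bool.and_eq_true] at h2
  have hE := Nat.eq_of_beq_eq_true h2.1
  have hF := Nat.eq_of_beq_eq_true h2.2
  rw [Amat_apply, x_entry r hr, pos_io, pos_io, Matrix.add_apply, Matrix.add_apply, Matrix.smul_apply, Matrix.smul_apply,
    Matrix.one_apply]
  simp only [io_inj.eq_iff, Code.sp, Matrix.of_apply, hE, hF, smul_eq_mul]
  have e1 : ∀ M : ℕ, (if M.testBit (52 * nthN ioN i + nthN ioN j) then (1 : K) else 0) =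
      ((cond (bitAt M (nthN ioN i) (nthN ioN j)) 1 0 : ℕ) : K) := by
    intro M
    unfold bitAt
    cases M.testBit (52 * nthN ioN i + nthN ioN j) <;> simp
  rw [e1, e1]

/-- action of `x_r(t)`, `r` short -/
def xS (E F : List (ℕ × ℕ)) (t M : ℕ) : ℕ :=
  match M with
  | 0 => 0
  | M => Nat.xor M (Nat.xor (sm t (lmul E M)) (sm (sq t) (lmul F M)))
where
  /-- squares -/
  sq : ℕ → ℕ
  | 0 => 0 | 1 => 1 | 2 => 4 | 3 => 5 | 4 => 6 | 5 => 7 | 6 => 2 | _ => 3

/-- action of `x_r(t)`, `r` long -/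
def xL (E : List (ℕ × ℕ)) (t M : ℕ) : ℕ :=
  match M with
  | 0 => 0
  | M => Nat.xor M (sm t (lmul E M))

/-- fourth powers -/
def sg : ℕ → ℕ
  | 0 => 0 | 1 => 1 | 2 => 6 | 3 => 7 | 4 => 2 | 5 => 3 | 6 => 4 | _ => 5

/-- fifth powers -/
def p5 : ℕ → ℕ
  | 0 => 0 | 1 => 1 | 2 => 7 | 3 => 2 | 4 => 3 | 5 => 4 | 6 => 5 | _ => 6

/-- action of `o a t` -/
def ao (a t M : ℕ) : ℕ :=
  match M with
  | 0 => 0
  | M => cond (Nat.beq t 0) M (xS (oE a) (oF a) t (xL (oG a) (sg t) M))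

/-- action of `e a p u` -/
def ae (a p u M : ℕ) : ℕ :=
  match M with
  | 0 => 0
  | M => aux a p u (aux2 a p u M)
where
  /-- first part -/
  aux (a p u M : ℕ) : ℕ :=
    match M with
    | 0 => 0
    | M => cond (Nat.beq p 0) M (xS (eE a) (eF a) p (xL (eG a) (sg p) M))
  /-- second part -/
  aux2 (a p u M : ℕ) : ℕ :=
    match M with
    | 0 => 0
    | M => xS (eH a) (eI a) (Nat.xor (p5 p) u) (xL (eJ a) (sg u) M)

section sem
variable {θ : K}

theorem gf_xor (n m : ℕ) : gf θ (n ^^^ m) = gf θ n + gf θ m := by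
  unfold gf
  simp only [Nat.testBit_xor, bk_xor]
  ring

theorem gf_zero : gf θ 0 = 0 := by simp [gf, bk]
theorem gf_one : gf θ 1 = 1 := by simp [gf, bk, show Nat.testBit 1 1 = false by decide, show Nat.testBit 1 2 = false by decide]

theorem t2 : (2 : K) = 0 := CharTwo.two_eq_zero

theorem gf_vals : gf θ 0 = 0 ∧ gf θ 1 = 1 ∧ gf θ 2 = θ ∧ gf θ 3 = 1 + θ ∧ gf θ 4 = θ ^ 2 ∧ gf θ 5 = 1 + θ ^ 2 ∧
    gf θ 6 = θ + θ ^ 2 ∧ gf θ 7 = 1 + θ + θ ^ 2 := by
  refine ⟨?_, ?_, ?_, ?_, ?_, ?_, ?_, ?_⟩ <;>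
  · unfold gf
    simp [bk, Nat.testBit]

theorem gf_sq (hθ : θ ^ 3 = θ + 1) {n : ℕ} (hn : n < 8) : gf θ (xS.sq n) = gf θ n ^ 2 := by
  obtain ⟨h0, h1, h2, h3, h4, h5, h6, h7⟩ := gf_vals (θ := θ)
  have two := t2 (K := K)
  have h44 : θ ^ 4 = θ + θ ^ 2 := by linear_combination θ * hθ
  interval_cases n
  · show gf θ 0 = _; rw [h0]; ring
  · show gf θ 1 = _; rw [h1]; ring
  · show gf θ 4 = _; rw [h4, h2]
  · show gf θ 5 = _; rw [h5, h3]; linear_combination (-θ) * two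
  · show gf θ 6 = _; rw [h6, h4]; linear_combination (-1) * h44
  · show gf θ 7 = _; rw [h7, h5]; linear_combination (-1) * h44 - θ ^ 2 * two
  · show gf θ 2 = _; rw [h2, h6]; linear_combination (-1) * h44 - (θ ^ 2 + θ ^ 3) * two
  · show gf θ 3 = _; rw [h3, h7]; linear_combination (-1) * h44 - (θ ^ 2 + θ + θ ^ 2 + θ ^ 3) * two

end sem

/-! ### multiplication of codes -/

/-- `θ` times the code -/
def tm (m : ℕ) : ℕ := Nat.xor (Nat.mod (Nat.mul 2 m) 8) (cond (Nat.testBit m 2) 3 0)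

/-- product of codes -/
def gm (n m : ℕ) : ℕ :=
  Nat.xor (cond (Nat.testBit n 0) m 0) (Nat.xor (cond (Nat.testBit n 1) (tm m) 0) (cond (Nat.testBit n 2) (tm (tm m)) 0))

section sem2
variable {θ : K}

theorem tm_lt {m : ℕ} (hm : m < 8) : tm m < 8 := by
  revert m; decide

theorem gf_tm (hθ : θ ^ 3 = θ + 1) {m : ℕ} (hm : m < 8) : gf θ (tm m) = θ * gf θ m := by
  obtain ⟨h0, h1, h2, h3, h4, h5, h6, h7⟩ := gf_vals (θ := θ)
  interval_cases m
  · show gf θ 0 = _; rw [h0]; ring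
  · show gf θ 2 = _; rw [h1, h2]; ring
  · show gf θ 4 = _; rw [h4, h2]; ring
  · show gf θ 6 = _; rw [h6, h3]; ring
  · show gf θ 3 = _; rw [h3, h4]; linear_combination (-1) * hθ
  · show gf θ 1 = _; rw [h1, h5]; linear_combination (-1) * hθ - θ * t2 (K := K)
  · show gf θ 7 = _; rw [h7, h6]; linear_combination (-1) * hθ
  · show gf θ 5 = _; rw [h5, h7]; linear_combination (-1) * hθ - θ * t2 (K := K)

theorem gf_cond (b : Bool) (m : ℕ) : gf θ (cond b m 0) = bk K b * gf θ m := by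
  cases b
  · rw [cond_false, gf_zero]; simp [bk]
  · rw [cond_true]; simp [bk]

theorem gf_gm (hθ : θ ^ 3 = θ + 1) {n m : ℕ} (hm : m < 8) : gf θ (gm n m) = gf θ n * gf θ m := by
  show gf θ ((cond (Nat.testBit n 0) m 0) ^^^ ((cond (Nat.testBit n 1) (tm m) 0) ^^^ (cond (Nat.testBit n 2) (tm (tm m)) 0))) = _
  rw [gf_xor, gf_xor, gf_cond, gf_cond, gf_cond, gf_tm hθ (tm_lt hm), gf_tm hθ hm]
  unfold gf
  ring

theorem gf_sg (hθ : θ ^ 3 = θ + 1) {n : ℕ} (hn : n < 8) : gf θ (sg n) = (gf θ n ^ 2) ^ 2 := by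
  have e : sg n = xS.sq (xS.sq n) := by interval_cases n <;> rfl
  have l : xS.sq n < 8 := by interval_cases n <;> decide
  rw [e, gf_sq hθ l, gf_sq hθ hn]

theorem gf_p5 (hθ : θ ^ 3 = θ + 1) {n : ℕ} (hn : n < 8) : gf θ (p5 n) = gf θ n * gf θ (sg n) := by
  have e : p5 n = gm n (sg n) := by interval_cases n <;> rfl
  have l : sg n < 8 := by interval_cases n <;> decide
  rw [e, gf_gm hθ l]

/-- inverses of codes -/
def gi : ℕ → ℕ
  | 0 => 0 | 1 => 1 | 2 => 5 | 3 => 6 | 4 => 7 | 5 => 2 | 6 => 3 | _ => 4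

theorem gf_ne_zero (hθ : θ ^ 3 = θ + 1) {n : ℕ} (hn : n < 8) (h0 : n ≠ 0) : gf θ n ≠ 0 := by
  intro h
  have e : gm (gi n) n = 1 := by interval_cases n <;> first | exact absurd rfl h0 | rfl
  have h2 := gf_gm hθ (n := gi n) hn
  rw [e, h, mul_zero, gf_one] at h2
  exact one_ne_zero h2

theorem gf_inj (hθ : θ ^ 3 = θ + 1) {n m : ℕ} (hn : n < 8) (hm : m < 8) (h : gf θ n = gf θ m) : n = m := by
  by_contra hne
  have h1 : n ^^^ m ≠ 0 := fun e => hne (Nat.xor_eq_zero_iff.1 e)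
  have h2 : n ^^^ m < 8 := Nat.xor_lt_two_pow (n := 3) hn hm
  refine gf_ne_zero hθ h2 h1 ?_
  rw [gf_xor, h, CharTwo.add_self_eq_zero]

theorem gf_surj [Fintype K] (hK : Fintype.card K = 8) (hθ : θ ^ 3 = θ + 1) (x : K) : ∃ n < 8, gf θ n = x := by
  have h : Function.Bijective (fun n : Fin 8 => gf θ n.val) := by
    rw [Fintype.bijective_iff_injective_and_card]
    exact ⟨fun a b h => Fin.ext (gf_inj hθ a.2 b.2 h), by rw [hK, Fintype.card_fin]⟩
  obtain ⟨n, hn⟩ := h.2 x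
  exact ⟨n.val, n.2, hn⟩

end sem2

/-! ### semantics of the actions -/

section sem3
variable {θ : K}

theorem sp_nil : Code.sp K [] = 0 := by
  ext i j
  simp [Code.sp]

theorem sem_xS (hθ : θ ^ 3 = θ + 1) {E F : List (ℕ × ℕ)} (hE : ∀ e ∈ E, e.2 < 26) (hF : ∀ e ∈ F, e.2 < 26) {t : ℕ}
    (ht : t < 8) (M : ℕ) :
    sem θ (xS E F t M) = (1 + gf θ t • Code.sp K E + (gf θ t) ^ 2 • Code.sp K F) * sem θ M := by
  have e : xS E F t M = M ^^^ (sm t (lmul E M) ^^^ sm (xS.sq t) (lmul F M)) := by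
    cases M with
    | zero =>
      have h : ∀ l : List (ℕ × ℕ), lmul l 0 = 0 := by
        intro l
        induction l with
        | nil => rfl
        | cons e l ih => show (lmul l 0) ^^^ (mv 0 e.1 e.2) = 0; rw [ih]; simp [mv]
      rw [h, h, show ∀ n, sm n 0 = 0 from fun n => rfl, show ∀ n, sm n 0 = 0 from fun n => rfl]; rfl
    | succ M => rfl
  rw [e, sem_xor, sem_xor, sem_sm hθ, sem_sm hθ, sem_lmul θ E hE, sem_lmul θ F hF, gf_sq hθ ht, Matrix.add_mul, Matrix.add_mul,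
    Matrix.one_mul, Matrix.smul_mul, Matrix.smul_mul, add_assoc]

theorem sem_xL (hθ : θ ^ 3 = θ + 1) {E : List (ℕ × ℕ)} (hE : ∀ e ∈ E, e.2 < 26) (t M : ℕ) :
    sem θ (xL E t M) = (1 + gf θ t • Code.sp K E) * sem θ M := by
  have e : xL E t M = M ^^^ (sm t (lmul E M)) := by
    cases M with
    | zero =>
      have h : ∀ l : List (ℕ × ℕ), lmul l 0 = 0 := by
        intro l
        induction l with
        | nil => rfl
        | cons e l ih => show (lmul l 0) ^^^ (mv 0 e.1 e.2) = 0; rw [ih]; simp [mv]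
      rw [h, show ∀ n, sm n 0 = 0 from fun n => rfl]; rfl
    | succ M => rfl
  rw [e, sem_xor, sem_sm hθ, sem_lmul θ E hE, Matrix.add_mul, Matrix.one_mul, Matrix.smul_mul]

theorem okl_of_chk {r : ℕ} {E F : List (ℕ × ℕ)} (h : chkR r E F = true) :
    (∀ e ∈ E, e.2 < 26) ∧ (∀ e ∈ F, e.2 < 26) := by
  unfold chkR at h
  rw [Bool.and_eq_true, Bool.and_eq_true, List.all_eq_true, List.all_eq_true] at h
  exact ⟨fun e he => by simpa [Nat.blt_eq] using h.1.1 e he, fun e he => by simpa [Nat.blt_eq] using h.1.2 e he⟩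

theorem Amat_S (hθ : θ ^ 3 = θ + 1) {r : ℕ} (hr : r < 48) {E F : List (ℕ × ℕ)} (h : chkR r E F = true) {t : ℕ}
    (ht : t < 8) (M : ℕ) :
    sem θ (xS E F t M) = Amat (chevF4.x K r (gf θ t)) * sem θ M := by
  rw [sem_xS hθ (okl_of_chk h).1 (okl_of_chk h).2 ht, Amat_of_chk hr h]

theorem Amat_L (hθ : θ ^ 3 = θ + 1) {r : ℕ} (hr : r < 48) {E : List (ℕ × ℕ)} (h : chkR r E [] = true) (t M : ℕ) :
    sem θ (xL E t M) = Amat (chevF4.x K r (gf θ t)) * sem θ M := by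
  rw [sem_xL hθ (okl_of_chk h).1, Amat_of_chk hr h, sp_nil, smul_zero, add_zero]

theorem chk_a {a : ℕ} (ha : a < 8) : chkR (oA (a : ZMod 8)) (oE a) (oF a) = true ∧ chkR (oB (a : ZMod 8)) (oG a) [] = true ∧
    chkR (eA (a : ZMod 8)) (eE a) (eF a) = true ∧ chkR (eB (a : ZMod 8)) (eG a) [] = true ∧
    chkR (eC (a : ZMod 8)) (eH a) (eI a) = true ∧ chkR (eD (a : ZMod 8)) (eJ a) [] = true := by
  have h := List.all_eq_true.1 chk_all a (List.mem_range.2 ha)
  simp only [Bool.and_eq_true] at h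
  tauto

variable [Finite K] {φ : K →+* K}

theorem Amat_GL (g h : GL chevF4.Idx K) (hh : h ∈ BlkG K) :
    Amat ((g * h : GL chevF4.Idx K) : Matrix chevF4.Idx chevF4.Idx K) =
      Amat (g : Matrix chevF4.Idx chevF4.Idx K) * Amat (h : Matrix chevF4.Idx chevF4.Idx K) := by
  rw [Units.val_mul]
  exact Amat_mul hh

theorem phi_gf (hφ : Rln φ (2 ^ 1)) (hθ : θ ^ 3 = θ + 1) {t : ℕ} (ht : t < 8) : φ (gf θ t) = gf θ (sg t) := by
  rw [gf_sg hθ ht, hφ.phi]; norm_num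

theorem sem_ao (hφ : Rln φ (2 ^ 1)) (hθ : θ ^ 3 = θ + 1) {a t : ℕ} (ha : a < 8) (ht : t < 8) (M : ℕ) :
    sem θ (ao a t M) = Amat ((Cfsg.Agent.KFacts.TwF4.Inst.go φ (a : ZMod 8) (gf θ t) : GL chevF4.Idx K) :
      Matrix chevF4.Idx chevF4.Idx K) * sem θ M := by
  cases M with
  | zero => show sem θ 0 = _; rw [sem_zero, Matrix.mul_zero]
  | succ M =>
    show sem θ (cond (Nat.beq t 0) (M + 1) (xS (oE a) (oF a) t (xL (oG a) (sg t) (M + 1)))) = _
    obtain ⟨h1, h2, -⟩ := chk_a ha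
    obtain ⟨l1, l2, -⟩ := Cfsg.Agent.KFacts.TwF4.Inst.lt48 (a : ZMod 8)
    have key : sem θ (xS (oE a) (oF a) t (xL (oG a) (sg t) (M + 1))) =
        Amat ((Cfsg.Agent.KFacts.TwF4.Inst.go φ (a : ZMod 8) (gf θ t) : GL chevF4.Idx K) :
          Matrix chevF4.Idx chevF4.Idx K) * sem θ (M + 1) := by
      rw [Amat_S hθ l1 h1 ht, Amat_L hθ l2 h2]
      have e : Cfsg.Agent.KFacts.TwF4.Inst.go φ (a : ZMod 8) (gf θ t) =
        X (oA (a : ZMod 8)) (gf θ t) * X (oB (a : ZMod 8)) (φ (gf θ t)) := rfl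
      rw [e, Amat_GL _ _ (X_mem_BlkG _ _), coe_X, coe_X, phi_gf hφ hθ ht, Matrix.mul_assoc]
    by_cases h0 : t = 0
    · subst h0
      rw [← key]
      show sem θ (M + 1) = _
      rw [sem_xS hθ (okl_of_chk h1).1 (okl_of_chk h1).2 ht, sem_xL hθ (okl_of_chk h2).1]
      simp [gf_zero, show sg 0 = 0 from rfl]
    · have : Nat.beq t 0 = false := by
        cases t with
        | zero => exact absurd rfl h0
        | succ t => rfl
      rw [this, cond_false, key]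

theorem sem_ae (hφ : Rln φ (2 ^ 1)) (hθ : θ ^ 3 = θ + 1) {a p u : ℕ} (ha : a < 8) (hp : p < 8) (hu : u < 8) (M : ℕ) :
    sem θ (ae a p u M) = Amat ((Cfsg.Agent.KFacts.TwF4.Inst.ge φ (a : ZMod 8) (gf θ p) (gf θ u) : GL chevF4.Idx K) :
      Matrix chevF4.Idx chevF4.Idx K) * sem θ M := by
  obtain ⟨-, -, h3, h4, h5, h6⟩ := chk_a ha
  obtain ⟨-, -, l3, l4, l5, l6⟩ := Cfsg.Agent.KFacts.TwF4.Inst.lt48 (a : ZMod 8)
  have hc : Nat.xor (p5 p) u < 8 := Nat.xor_lt_two_pow (n := 3) (by interval_cases p <;> decide) hu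
  have k2 : ∀ M : ℕ, sem θ (ae.aux2 a p u M) = Amat (chevF4.x K (eC (a : ZMod 8)) (gf θ p * φ (gf θ p) + gf θ u)) *
      (Amat (chevF4.x K (eD (a : ZMod 8)) (φ (gf θ u))) * sem θ M) := by
    intro M
    cases M with
    | zero => show sem θ 0 = _; rw [sem_zero, Matrix.mul_zero, Matrix.mul_zero]
    | succ M =>
      show sem θ (xS (eH a) (eI a) (Nat.xor (p5 p) u) (xL (eJ a) (sg u) (M + 1))) = _
      rw [Amat_S hθ l5 h5 hc, Amat_L hθ l6 h6, phi_gf hφ hθ hp, phi_gf hφ hθ hu]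
      have : gf θ (Nat.xor (p5 p) u) = gf θ p * gf θ (sg p) + gf θ u := by
        show gf θ (p5 p ^^^ u) = _
        rw [gf_xor, gf_p5 hθ hp]
      rw [this]
  have k1 : ∀ M : ℕ, sem θ (ae.aux a p u M) = Amat (chevF4.x K (eA (a : ZMod 8)) (gf θ p)) *
      (Amat (chevF4.x K (eB (a : ZMod 8)) (φ (gf θ p))) * sem θ M) := by
    intro M
    cases M with
    | zero => show sem θ 0 = _; rw [sem_zero, Matrix.mul_zero, Matrix.mul_zero]
    | succ M =>
      show sem θ (cond (Nat.beq p 0) (M + 1) (xS (eE a) (eF a) p (xL (eG a) (sg p) (M + 1)))) = _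
      have key : sem θ (xS (eE a) (eF a) p (xL (eG a) (sg p) (M + 1))) = Amat (chevF4.x K (eA (a : ZMod 8)) (gf θ p)) *
          (Amat (chevF4.x K (eB (a : ZMod 8)) (φ (gf θ p))) * sem θ (M + 1)) := by
        rw [Amat_S hθ l3 h3 hp, Amat_L hθ l4 h4, phi_gf hφ hθ hp]
      by_cases h0 : p = 0
      · subst h0
        rw [← key]
        show sem θ (M + 1) = _
        rw [sem_xS hθ (okl_of_chk h3).1 (okl_of_chk h3).2 hp, sem_xL hθ (okl_of_chk h4).1]
        simp [gf_zero, show sg 0 = 0 from rfl]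
      · have : Nat.beq p 0 = false := by
          cases p with
          | zero => exact absurd rfl h0
          | succ t => rfl
        rw [this, cond_false, key]
  have e : Cfsg.Agent.KFacts.TwF4.Inst.ge φ (a : ZMod 8) (gf θ p) (gf θ u) =
      X (eA (a : ZMod 8)) (gf θ p) * X (eB (a : ZMod 8)) (φ (gf θ p)) *
        X (eC (a : ZMod 8)) (gf θ p * φ (gf θ p) + gf θ u) * X (eD (a : ZMod 8)) (φ (gf θ u)) := rfl
  rw [e, Amat_GL _ _ (X_mem_BlkG _ _), Amat_GL _ _ (X_mem_BlkG _ _), Amat_GL _ _ (X_mem_BlkG _ _), coe_X, coe_X, coe_X, coe_X]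
  cases M with
  | zero => show sem θ 0 = _; rw [sem_zero, Matrix.mul_zero]
  | succ M =>
    show sem θ (ae.aux a p u (ae.aux2 a p u (M + 1))) = _
    rw [k1, k2]
    simp only [Matrix.mul_assoc]

end sem3

end Cfsg.Agent.H857.Ree8.Root
end

-- part: H857/Ree8/Word
section
/-!
# Words in the root elements of `²F₄(8)`, their packed matrices and traces
-/

set_option autoImplicit false
set_option linter.unusedSectionVars false
set_option maxRecDepth 20000

namespace Cfsg.Agent.H857.Ree8.Word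

open Cfsg.Lie Cfsg.Agent.ChevalleyStructure.TwF4.TwistedFix
open Cfsg.Agent.H857.Ree8.Root Cfsg.Agent.H857.Ree8.Code
open Cfsg.Agent.KFacts.TwF4

/-- a root element -/
inductive Tok
  | o (a t : ℕ)
  | e (a p u : ℕ)
deriving DecidableEq

/-- the action on packed matrices -/
def act : Tok → ℕ → ℕ
  | .o a t, M => ao a t M
  | .e a p u, M => ae a p u M

/-- the action of a word -/
def ev (w : List Tok) (M : ℕ) : ℕ := w.foldr act M

/-- the codes are in range -/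
def ok1 : Tok → Bool
  | .o a t => Nat.blt a 8 && Nat.blt t 8
  | .e a p u => Nat.blt a 8 && (Nat.blt p 8 && Nat.blt u 8)

/-- the codes are in range -/
def ok (w : List Tok) : Bool := w.all ok1

/-- the identity matrix -/
def idM : ℕ := (List.range 26).foldr (fun i M => Nat.xor M (Nat.shiftLeft 1 (Nat.mul 79 i))) 0

/-- the inverse of a root element -/
def inv1 : Tok → Tok
  | .o a t => .o a t
  | .e a p u => .e a p (Nat.xor u (p5 p))

/-- the inverse word -/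
def inv (w : List Tok) : List Tok := (w.map inv1).reverse

/-- the power of a word -/
def pw (w : List Tok) : ℕ → List Tok
  | 0 => []
  | n + 1 => w ++ pw w n

theorem ok_nil : ok [] = true := rfl
theorem ok_cons {t : Tok} {w : List Tok} : ok (t :: w) = (ok1 t && ok w) := rfl
theorem ok_append {v w : List Tok} : ok (v ++ w) = (ok v && ok w) := by
  unfold ok; rw [List.all_append]

theorem ok_pw {w : List Tok} (h : ok w = true) (n : ℕ) : ok (pw w n) = true := by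
  induction n with
  | zero => rfl
  | succ n ih => rw [pw, ok_append, h, ih]; rfl

private noncomputable def _root_.Cfsg.Agent.LsF.fccbb44_19 : {f // @Cfsg.Agent.H857.Ree8.Word.idM = f} := ⟨_, by first | (delta Cfsg.Agent.H857.Ree8.Word.idM; rewrite [Cfsg.Agent.LsF.foldr_eq, Cfsg.Agent.LsF.range_eq]; exact rfl) | exact rfl⟩
theorem id_chk : ((List.range 26).all fun i => (List.range 26).all fun j =>
    (idM.testBit (78 * i + j) == Nat.beq i j) && !(idM.testBit (78 * i + j + 26)) && !(idM.testBit (78 * i + j + 52))) =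
    true := by ((try (rewrite [Cfsg.Agent.LsF.fccbb44_19.2, Cfsg.Agent.LsF.nadd_pat, Cfsg.Agent.LsF.nmul_pat, Cfsg.Agent.LsF.bbeq_pat, Cfsg.Agent.LsF.and_eq, Cfsg.Agent.LsF.not_eq, Cfsg.Agent.LsF.testBit_eq, Cfsg.Agent.LsF.all_eq, Cfsg.Agent.LsF.range_eq])); decide +kernel)

section

variable {K : Type*} [Field K] [CharP K 2] [Finite K] {φ : K →+* K} (hφ : Rln φ (2 ^ 1)) {θ : K}

theorem sem_idM : sem θ idM = 1 := by
  ext i j
  have h := List.all_eq_true.1 id_chk i.val (List.mem_range.2 i.2)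
  have h2 := List.all_eq_true.1 h j.val (List.mem_range.2 j.2)
  simp only [Bool.and_eq_true, Bool.not_eq_true', beq_iff_eq] at h2
  rw [sem_apply, co, h2.1.1, h2.1.2, h2.2, Matrix.one_apply]
  by_cases hij : i = j
  · subst hij
    rw [if_pos rfl, show Nat.beq i.val i.val = true from Nat.beq_refl _]
    simp [bk]
  · have : Nat.beq i.val j.val = false := by
      rw [Bool.eq_false_iff]
      intro e
      exact hij (Fin.ext (Nat.eq_of_beq_eq_true e))
    rw [if_neg hij, this]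
    simp [bk]

/-- the group -/
abbrev GG (K : Type*) [Field K] : Type _ := ↥(twistedF4 K (2 ^ 1))

/-- the 26-dimensional representation -/
noncomputable def AG (K : Type*) [Field K] [CharP K 2] [Finite K] : GG K →* Matrix (Fin 26) (Fin 26) K :=
  Cfsg.Agent.H977.TwF4Two.homA _ (Cfsg.Agent.H977.TwF4Two.twistedF4_le (K := K) (2 ^ 1))

variable (θ) in
/-- the group element of a root element -/
noncomputable def tg : Tok → GG K
  | .o a t => Inst.ro hφ (a : ZMod 8) (gf θ t)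
  | .e a p u => Inst.re hφ (a : ZMod 8) (gf θ p) (gf θ u)

variable (θ) in
/-- the group element of a word -/
noncomputable def wg (w : List Tok) : GG K := (w.map (tg hφ θ)).prod

theorem wg_nil : wg hφ θ [] = 1 := rfl

theorem wg_cons (t : Tok) (w : List Tok) : wg hφ θ (t :: w) = tg hφ θ t * wg hφ θ w := by
  unfold wg; rw [List.map_cons, List.prod_cons]

theorem wg_append (v w : List Tok) : wg hφ θ (v ++ w) = wg hφ θ v * wg hφ θ w := by
  unfold wg; rw [List.map_append, List.prod_append]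

theorem wg_pw (w : List Tok) (n : ℕ) : wg hφ θ (pw w n) = wg hφ θ w ^ n := by
  induction n with
  | zero => rw [pow_zero]; rfl
  | succ n ih =>
    rw [pw, wg_append, ih]
    exact (pow_succ' _ _).symm

theorem act_sem (hθ : θ ^ 3 = θ + 1) {t : Tok} (ht : ok1 t = true) (M : ℕ) :
    sem θ (act t M) = AG K (tg hφ θ t) * sem θ M := by
  cases t with
  | o a t =>
    simp only [ok1, Bool.and_eq_true, Nat.blt_eq] at ht
    exact sem_ao hφ hθ ht.1 ht.2 M
  | e a p u =>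
    simp only [ok1, Bool.and_eq_true, Nat.blt_eq] at ht
    exact sem_ae hφ hθ ht.1 ht.2.1 ht.2.2 M

theorem sem_ev (hθ : θ ^ 3 = θ + 1) {w : List Tok} (hw : ok w = true) (M : ℕ) :
    sem θ (ev w M) = AG K (wg hφ θ w) * sem θ M := by
  induction w with
  | nil => rw [wg_nil, map_one, Matrix.one_mul]; rfl
  | cons t w ih =>
    rw [ok_cons, Bool.and_eq_true] at hw
    show sem θ (act t (ev w M)) = _
    rw [act_sem hφ hθ hw.1, ih hw.2, wg_cons, map_mul, Matrix.mul_assoc]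

theorem sem_ev_id (hθ : θ ^ 3 = θ + 1) {w : List Tok} (hw : ok w = true) :
    sem θ (ev w idM) = AG K (wg hφ θ w) := by
  rw [sem_ev hφ hθ hw, sem_idM, Matrix.mul_one]

include hφ in
theorem AG_injective [IsSimpleGroup (GG K)] (hna : ¬ IsMulCommutative (GG K)) : Function.Injective (AG K) := by
  rw [injective_iff_map_eq_one]
  intro g hg
  have hF := twisted_le_Fix hφ g.2
  rw [Cfsg.Agent.ChevalleyStructure.TwF4.Fix.mem_Fix] at hF
  have h1 : g ∈ (Cfsg.Agent.H977.TwF4Two.homA _ (Cfsg.Agent.H977.TwF4Two.twistedF4_le (K := K) (2 ^ 1))).ker ⊓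
      (Cfsg.Agent.H977.TwF4Two.homC _ (Cfsg.Agent.H977.TwF4Two.twistedF4_le (K := K) (2 ^ 1))).ker := by
    refine ⟨hg, ?_⟩
    show Cfsg.Agent.ChevalleyStructure.TwF4.Fix.Cmat ((g : GL chevF4.Idx K) : Matrix chevF4.Idx chevF4.Idx K) = 1
    have hg' : Cfsg.Agent.ChevalleyStructure.TwF4.Fix.Amat ((g : GL chevF4.Idx K) : Matrix chevF4.Idx chevF4.Idx K) = 1 := hg
    rw [hF.2, hg', Cfsg.Agent.ChevalleyStructure.TwF4.Fix.map_one']
  rw [Cfsg.Agent.H977.TwF4Two.ker_bot _ _ hna] at h1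
  exact h1

/-- the code of three bits -/
def c3 (M p : ℕ) : ℕ :=
  Nat.add (cond (Nat.testBit M p) 1 0) (Nat.add (cond (Nat.testBit M (Nat.add p 26)) 2 0) (cond (Nat.testBit M (Nat.add p 52)) 4 0))

theorem c3_lt (M p : ℕ) : c3 M p < 8 := by
  show (cond (Nat.testBit M p) 1 0) + ((cond (Nat.testBit M (p + 26)) 2 0) + (cond (Nat.testBit M (p + 52)) 4 0)) < 8
  cases Nat.testBit M p <;> cases Nat.testBit M (p + 26) <;> cases Nat.testBit M (p + 52) <;> simp

theorem gf_c3 (M p : ℕ) : gf θ (c3 M p) = co θ M p := by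
  show gf θ ((cond (Nat.testBit M p) 1 0) + ((cond (Nat.testBit M (p + 26)) 2 0) + (cond (Nat.testBit M (p + 52)) 4 0))) = _
  unfold co
  cases Nat.testBit M p <;> cases Nat.testBit M (p + 26) <;> cases Nat.testBit M (p + 52) <;>
    simp [gf, bk, Nat.testBit]

theorem c3_bits {M N p : ℕ} (h : c3 M p = c3 N p) : M.testBit p = N.testBit p ∧
    M.testBit (p + 26) = N.testBit (p + 26) ∧ M.testBit (p + 52) = N.testBit (p + 52) := by
  have h' : (cond (Nat.testBit M p) 1 0) + ((cond (Nat.testBit M (p + 26)) 2 0) + (cond (Nat.testBit M (p + 52)) 4 0)) =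
    (cond (Nat.testBit N p) 1 0) + ((cond (Nat.testBit N (p + 26)) 2 0) + (cond (Nat.testBit N (p + 52)) 4 0)) := h
  revert h'
  cases Nat.testBit M p <;> cases Nat.testBit M (p + 26) <;> cases Nat.testBit M (p + 52) <;>
    cases Nat.testBit N p <;> cases Nat.testBit N (p + 26) <;> cases Nat.testBit N (p + 52) <;> simp

theorem sem_inj (hθ : θ ^ 3 = θ + 1) {M N : ℕ} (h : sem θ M = sem θ N) : M % 2 ^ 2028 = N % 2 ^ 2028 := by
  have key : ∀ i < 26, ∀ j < 26, M.testBit (78 * i + j) = N.testBit (78 * i + j) ∧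
      M.testBit (78 * i + j + 26) = N.testBit (78 * i + j + 26) ∧
      M.testBit (78 * i + j + 52) = N.testBit (78 * i + j + 52) := by
    intro i hi j hj
    have h1 := congrFun (congrFun h ⟨i, hi⟩) ⟨j, hj⟩
    rw [sem_apply, sem_apply, ← gf_c3, ← gf_c3] at h1
    exact c3_bits (gf_inj hθ (c3_lt _ _) (c3_lt _ _) h1)
  apply Nat.eq_of_testBit_eq
  intro p
  rw [Nat.testBit_mod_two_pow, Nat.testBit_mod_two_pow]
  by_cases hp : p < 2028
  · have e1 : decide (p < 2028) = true := decide_eq_true hp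
    rw [e1, Bool.true_and, Bool.true_and]
    have hi : p / 78 < 26 := by omega
    rcases lt_or_ge (p % 78) 26 with h1 | h1
    · have := (key (p / 78) hi (p % 78) h1).1
      rwa [show 78 * (p / 78) + p % 78 = p by omega] at this
    · rcases lt_or_ge (p % 78) 52 with h2 | h2
      · have := (key (p / 78) hi (p % 78 - 26) (by omega)).2.1
        rwa [show 78 * (p / 78) + (p % 78 - 26) + 26 = p by omega] at this
      · have := (key (p / 78) hi (p % 78 - 52) (by omega)).2.2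
        rwa [show 78 * (p / 78) + (p % 78 - 52) + 52 = p by omega] at this
  · rw [decide_eq_false hp, Bool.false_and, Bool.false_and]

/-- equality of the matrices -/
def beqM (M N : ℕ) : Bool := Nat.beq (Nat.mod M (Nat.shiftLeft 1 2028)) (Nat.mod N (Nat.shiftLeft 1 2028))

theorem not_sem_eq (hθ : θ ^ 3 = θ + 1) {M N : ℕ} (h : beqM M N = false) : sem θ M ≠ sem θ N := by
  intro e
  have h1 := sem_inj hθ e
  have h2 : beqM M N = true := by
    unfold beqM
    have e2 : Nat.shiftLeft 1 2028 = 2 ^ 2028 := Nat.one_shiftLeft 2028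
    rw [e2]
    have h3 : Nat.mod M (2 ^ 2028) = Nat.mod N (2 ^ 2028) := h1
    rw [h3]
    exact Nat.beq_refl _
  rw [h] at h2
  exact Bool.false_ne_true h2

/-- equality of words from the matrices -/
theorem wg_eq [IsSimpleGroup (GG K)] (hna : ¬ IsMulCommutative (GG K)) (hθ : θ ^ 3 = θ + 1) {v w : List Tok}
    (h : (ok v && ok w && Nat.beq (ev v idM) (ev w idM)) = true) : wg hφ θ v = wg hφ θ w := by
  rw [Bool.and_eq_true, Bool.and_eq_true] at h
  apply AG_injective hφ hna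
  rw [← sem_ev_id hφ hθ h.1.1, ← sem_ev_id hφ hθ h.1.2, Nat.eq_of_beq_eq_true h.2]

/-- different words -/
theorem wg_ne (hθ : θ ^ 3 = θ + 1) {v w : List Tok} (M : ℕ)
    (h : (ok v && ok w && !(beqM (ev v M) (ev w M))) = true) : wg hφ θ v ≠ wg hφ θ w := by
  rw [Bool.and_eq_true, Bool.and_eq_true, Bool.not_eq_true'] at h
  intro e
  refine not_sem_eq hθ h.2 ?_
  rw [sem_ev hφ hθ h.1.1, sem_ev hφ hθ h.1.2, e]

/-- the trace -/
def trc (M : ℕ) : ℕ := (List.range 26).foldr (fun i a => Nat.xor (c3 M (Nat.mul 79 i)) a) 0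

theorem gf_trc (M : ℕ) : gf θ (trc M) = Matrix.trace (sem θ M) := by
  have h : ∀ l : List ℕ, gf θ (l.foldr (fun i a => Nat.xor (c3 M (Nat.mul 79 i)) a) 0) =
      (l.map fun i => co θ M (79 * i)).sum := by
    intro l
    induction l with
    | nil => exact gf_zero
    | cons i l ih =>
      show gf θ (c3 M (79 * i) ^^^ (l.foldr (fun i a => Nat.xor (c3 M (Nat.mul 79 i)) a) 0)) = _
      rw [gf_xor, ih, gf_c3, List.map_cons, List.sum_cons]
  unfold trc
  rw [h, Matrix.trace]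
  simp only [Matrix.diag_apply, sem_apply]
  rw [← Finset.sum_range (fun i => co θ M (78 * i + i))]
  rw [Finset.sum_eq_multiset_sum, Finset.range_val, Multiset.range, Multiset.map_coe, Multiset.sum_coe]
  have e : (fun i => co θ M (79 * i)) = fun i => co θ M (78 * i + i) := by
    funext i
    rw [show 79 * i = 78 * i + i by ring]
  rw [e]

theorem trace_wg (hθ : θ ^ 3 = θ + 1) {w : List Tok} (hw : ok w = true) {n : ℕ} (h : trc (ev w idM) = n) :
    Matrix.trace (AG K (wg hφ θ w)) = gf θ n := by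
  rw [← sem_ev_id hφ hθ hw, ← gf_trc, h]

theorem trace_conj {g h : GG K} (H : IsConj g h) : Matrix.trace (AG K g) = Matrix.trace (AG K h) := by
  obtain ⟨c, hc⟩ := isConj_iff.1 H
  rw [← hc, map_mul, map_mul, Matrix.trace_mul_comm, ← Matrix.mul_assoc, ← map_mul, inv_mul_cancel, map_one, Matrix.one_mul]

end

end Cfsg.Agent.H857.Ree8.Word
end

-- part: H857/Ree8/Data
section
/-!
# The elements `x, s, w₁, w₂, w₃` of `²F₄(8)`: words and relations
-/

set_option autoImplicit false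
set_option maxRecDepth 20000

namespace Cfsg.Agent.H857.Ree8.Data

open Cfsg.Agent.H857.Ree8.Root Cfsg.Agent.H857.Ree8.Code Cfsg.Agent.H857.Ree8.Word
open Cfsg.Agent.H857.Ree8.Word.Tok

/-- the element `x` of order 13 -/
def xW : List Tok := [o 2 1, e 1 0 1, o 1 1, e 3 1 1, o 7 1, e 6 0 1, o 2 1, e 6 0 1, o 7 1, e 3 1 0, o 1 1, e 1 0 1]
/-- the element `d` of order 3 -/
def dW : List Tok := [o 4 1, o 0 1]
/-- the centraliser of `d` in `NO` -/
def gEW (u t s : ℕ) : List Tok :=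
  [e 1 0 u, o 1 t, e 2 (xS.sq t) (Nat.xor (gm u t) (gm u (sg u))), o 2 s,
    e 3 (Nat.xor (xS.sq t) u) (Nat.xor (gm t (xS.sq t)) (Nat.xor (gm (sg u) (xS.sq t)) (gm u (sg u)))),
    o 3 (Nat.xor t (sg u)), e 4 0 u]
/-- the element `s` of order 12 -/
def sW : List Tok := dW ++ gEW 1 1 1
/-- the involutions inverting `s` -/
def wW : ℕ → List Tok
  | 0 => gEW 3 7 7 ++ [o 0 3, o 4 4, o 0 3]
  | 1 => gEW 5 3 3 ++ [o 0 5, o 4 6, o 0 5]
  | _ => gEW 7 5 5 ++ [o 0 7, o 4 2, o 0 7]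
/-- element of order 13 of the first Suzuki group -/
def aW : List Tok := [e 4 0 1, e 0 0 3]
/-- element of order 13 of the second Suzuki group -/
def bW : List Tok := [e 6 0 1, e 2 0 3]
/-- elements of order 4 -/
def a1W : List Tok := [e 4 1 5]
/-- elements of order 4 -/
def b1W : List Tok := [e 6 1 5]
/-- conjugates `a b ^ 2` to `x` -/
def g1W : List Tok := [o 1 1, e 2 3 6, o 2 5, e 3 4 4, o 3 7, o 0 6, o 4 2, o 0 6, e 5 1 0, e 6 1 0, e 2 0 1, e 7 1 0]
/-- conjugates `a b ^ 4` to `x` -/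
def g2W : List Tok := [e 1 0 6, o 1 1, e 2 7 3, o 2 7, e 3 4 4, o 3 6, e 4 0 7, o 0 6, o 4 2, o 0 7, e 5 1 0, e 6 1 0,
  e 2 0 1, e 7 1 0]

/-- the check -/
def chk (v w : List Tok) : Bool := ok v && ok w && Nat.beq (ev v idM) (ev w idM)

private noncomputable def _root_.Cfsg.Agent.LsF.fccbb44_20 : {f // @Cfsg.Agent.H857.Ree8.Word.ok1 = f} := ⟨_, by first | (delta Cfsg.Agent.H857.Ree8.Word.ok1; rewrite [Cfsg.Agent.LsF.and_eq]; (try delta Cfsg.Agent.H857.Ree8.Word.ok1.match_1); (try delta Cfsg.Agent.H857.Ree8.Word.Tok.casesOn); exact rfl) | exact rfl⟩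
private noncomputable def _root_.Cfsg.Agent.LsF.fccbb44_21 : {f // @Cfsg.Agent.H857.Ree8.Word.ok = f} := ⟨_, by first | (delta Cfsg.Agent.H857.Ree8.Word.ok; rewrite [Cfsg.Agent.LsF.fccbb44_20.2, Cfsg.Agent.LsF.all_eq]; exact rfl) | exact rfl⟩
private noncomputable def _root_.Cfsg.Agent.LsF.fccbb44_22 : {f // @Cfsg.Agent.H857.Ree8.Code.sm = f} := ⟨_, by first | (delta Cfsg.Agent.H857.Ree8.Code.sm; rewrite [Cfsg.Agent.LsF.cond_eq, Cfsg.Agent.LsF.testBit_eq]; (try delta Cfsg.Agent.H857.Ree8.Code.th.match_1); (try rewrite [Cfsg.Agent.LsF.instDecEq_eq, Cfsg.Agent.LsF.dite_eq]); exact rfl) | exact rfl⟩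
private noncomputable def _root_.Cfsg.Agent.LsF.fccbb44_23 : {f // @Cfsg.Agent.H857.Ree8.Code.lmul = f} := ⟨_, by first | (delta Cfsg.Agent.H857.Ree8.Code.lmul; rewrite [Cfsg.Agent.LsF.foldr_eq]; exact rfl) | exact rfl⟩
private noncomputable def _root_.Cfsg.Agent.LsF.fccbb44_24 : {f // @Cfsg.Agent.H857.Ree8.Root.xS = f} := ⟨_, by first | (delta Cfsg.Agent.H857.Ree8.Root.xS; rewrite [Cfsg.Agent.LsF.fccbb44_22.2, Cfsg.Agent.LsF.fccbb44_23.2]; (try delta Cfsg.Agent.H857.Ree8.Code.th.match_1); (try rewrite [Cfsg.Agent.LsF.instDecEq_eq, Cfsg.Agent.LsF.dite_eq]); exact rfl) | exact rfl⟩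
private noncomputable def _root_.Cfsg.Agent.LsF.fccbb44_25 : {f // @Cfsg.Agent.H857.Ree8.Root.xL = f} := ⟨_, by first | (delta Cfsg.Agent.H857.Ree8.Root.xL; rewrite [Cfsg.Agent.LsF.fccbb44_22.2, Cfsg.Agent.LsF.fccbb44_23.2]; (try delta Cfsg.Agent.H857.Ree8.Code.th.match_1); (try rewrite [Cfsg.Agent.LsF.instDecEq_eq, Cfsg.Agent.LsF.dite_eq]); exact rfl) | exact rfl⟩
private noncomputable def _root_.Cfsg.Agent.LsF.fccbb44_26 : {f // @Cfsg.Agent.H857.Ree8.Root.ao = f} := ⟨_, by first | (delta Cfsg.Agent.H857.Ree8.Root.ao; rewrite [Cfsg.Agent.LsF.fccbb44_24.2, Cfsg.Agent.LsF.fccbb44_25.2, Cfsg.Agent.LsF.cond_eq]; (try delta Cfsg.Agent.H857.Ree8.Code.th.match_1); (try rewrite [Cfsg.Agent.LsF.instDecEq_eq, Cfsg.Agent.LsF.dite_eq]); exact rfl) | exact rfl⟩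
private noncomputable def _root_.Cfsg.Agent.LsF.fccbb44_27 : {f // @Cfsg.Agent.H857.Ree8.Root.ae.aux = f} := ⟨_, by first | (delta Cfsg.Agent.H857.Ree8.Root.ae.aux; rewrite [Cfsg.Agent.LsF.fccbb44_24.2, Cfsg.Agent.LsF.fccbb44_25.2, Cfsg.Agent.LsF.cond_eq]; (try delta Cfsg.Agent.H857.Ree8.Code.th.match_1); (try rewrite [Cfsg.Agent.LsF.instDecEq_eq, Cfsg.Agent.LsF.dite_eq]); exact rfl) | exact rfl⟩
private noncomputable def _root_.Cfsg.Agent.LsF.fccbb44_28 : {f // @Cfsg.Agent.H857.Ree8.Root.ae.aux2 = f} := ⟨_, by first | (delta Cfsg.Agent.H857.Ree8.Root.ae.aux2; rewrite [Cfsg.Agent.LsF.fccbb44_24.2, Cfsg.Agent.LsF.fccbb44_25.2]; (try delta Cfsg.Agent.H857.Ree8.Code.th.match_1); (try rewrite [Cfsg.Agent.LsF.instDecEq_eq, Cfsg.Agent.LsF.dite_eq]); exact rfl) | exact rfl⟩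
private noncomputable def _root_.Cfsg.Agent.LsF.fccbb44_29 : {f // @Cfsg.Agent.H857.Ree8.Root.ae = f} := ⟨_, by first | (delta Cfsg.Agent.H857.Ree8.Root.ae; rewrite [Cfsg.Agent.LsF.fccbb44_27.2, Cfsg.Agent.LsF.fccbb44_28.2]; (try delta Cfsg.Agent.H857.Ree8.Code.th.match_1); (try rewrite [Cfsg.Agent.LsF.instDecEq_eq, Cfsg.Agent.LsF.dite_eq]); exact rfl) | exact rfl⟩
private noncomputable def _root_.Cfsg.Agent.LsF.fccbb44_30 : {f // @Cfsg.Agent.H857.Ree8.Word.act = f} := ⟨_, by first | (delta Cfsg.Agent.H857.Ree8.Word.act; rewrite [Cfsg.Agent.LsF.fccbb44_26.2, Cfsg.Agent.LsF.fccbb44_29.2]; (try delta Cfsg.Agent.H857.Ree8.Word.act.match_1); (try delta Cfsg.Agent.H857.Ree8.Word.Tok.casesOn); exact rfl) | exact rfl⟩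
private noncomputable def _root_.Cfsg.Agent.LsF.fccbb44_31 : {f // @Cfsg.Agent.H857.Ree8.Word.ev = f} := ⟨_, by first | (delta Cfsg.Agent.H857.Ree8.Word.ev; rewrite [Cfsg.Agent.LsF.fccbb44_30.2, Cfsg.Agent.LsF.foldr_eq]; exact rfl) | exact rfl⟩
private noncomputable def _root_.Cfsg.Agent.LsF.fccbb44_32 : {f // @Cfsg.Agent.H857.Ree8.Data.chk = f} := ⟨_, by first | (delta Cfsg.Agent.H857.Ree8.Data.chk; rewrite [Cfsg.Agent.LsF.fccbb44_21.2, Cfsg.Agent.LsF.fccbb44_31.2, Cfsg.Agent.LsF.fccbb44_19.2, Cfsg.Agent.LsF.and_eq]; exact rfl) | exact rfl⟩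
private noncomputable def _root_.Cfsg.Agent.LsF.fccbb44_33 : {f // @Cfsg.Agent.H857.Ree8.Word.pw = f} := ⟨_, by first | (delta Cfsg.Agent.H857.Ree8.Word.pw Nat.brecOn.go Nat.brecOn Cfsg.Agent.H857.Ree8.Word.pw._f; rewrite [Cfsg.Agent.LsF.lappend_pat]; (try delta Cfsg.Agent.H857.Ree8.Word.pw.match_1); (try delta Nat.casesOn); first | dsimp -zeta only | exact rfl) | exact rfl⟩
theorem r_x13 : chk (pw xW 13) [] = true := by ((try (rewrite [Cfsg.Agent.LsF.fccbb44_32.2, Cfsg.Agent.LsF.fccbb44_33.2])); decide +kernel)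
theorem r_s12 : chk (pw sW 12) [] = true := by decide +kernel
theorem r_sx : chk (sW ++ xW) (pw xW 2 ++ sW) = true := by decide +kernel
theorem r_s4 : chk (pw sW 4) dW = true := by decide +kernel
theorem r_s6 : chk (pw sW 6) [o 2 1] = true := by decide +kernel
theorem r_w2 : (List.range 3).all (fun i => chk (wW i ++ wW i) []) = true := by decide +kernel
private noncomputable def _root_.Cfsg.Agent.LsF.fccbb44_34 : {f // @Cfsg.Agent.H857.Ree8.Root.tm = f} := ⟨_, by first | (delta Cfsg.Agent.H857.Ree8.Root.tm; rewrite [Cfsg.Agent.LsF.cond_eq, Cfsg.Agent.LsF.testBit_eq]; exact rfl) | exact rfl⟩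
private noncomputable def _root_.Cfsg.Agent.LsF.fccbb44_35 : {f // @Cfsg.Agent.H857.Ree8.Root.gm = f} := ⟨_, by first | (delta Cfsg.Agent.H857.Ree8.Root.gm; rewrite [Cfsg.Agent.LsF.fccbb44_34.2, Cfsg.Agent.LsF.cond_eq, Cfsg.Agent.LsF.testBit_eq]; exact rfl) | exact rfl⟩
private noncomputable def _root_.Cfsg.Agent.LsF.fccbb44_36 : {f // @Cfsg.Agent.H857.Ree8.Data.gEW = f} := ⟨_, by first | (delta Cfsg.Agent.H857.Ree8.Data.gEW; rewrite [Cfsg.Agent.LsF.fccbb44_35.2]; exact rfl) | exact rfl⟩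
private noncomputable def _root_.Cfsg.Agent.LsF.fccbb44_37 : {f // @Cfsg.Agent.H857.Ree8.Data.wW = f} := ⟨_, by first | (delta Cfsg.Agent.H857.Ree8.Data.wW; rewrite [Cfsg.Agent.LsF.fccbb44_36.2, Cfsg.Agent.LsF.lappend_pat]; (try delta Cfsg.Agent.H857.Ree8.Data.wW.match_1); (try rewrite [Cfsg.Agent.LsF.instDecEq_eq, Cfsg.Agent.LsF.dite_eq]); exact rfl) | exact rfl⟩
private noncomputable def _root_.Cfsg.Agent.LsF.fccbb44_38 : {f // @Cfsg.Agent.H857.Ree8.Data.sW = f} := ⟨_, by first | (delta Cfsg.Agent.H857.Ree8.Data.sW; rewrite [Cfsg.Agent.LsF.fccbb44_36.2, Cfsg.Agent.LsF.lappend_pat]; exact rfl) | exact rfl⟩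
theorem r_ws : (List.range 3).all (fun i => chk (wW i ++ sW ++ wW i) (pw sW 11)) = true := by ((try (rewrite [Cfsg.Agent.LsF.fccbb44_32.2, Cfsg.Agent.LsF.fccbb44_37.2, Cfsg.Agent.LsF.fccbb44_38.2, Cfsg.Agent.LsF.fccbb44_33.2, Cfsg.Agent.LsF.lappend_pat, Cfsg.Agent.LsF.all_eq, Cfsg.Agent.LsF.range_eq])); decide +kernel)
theorem r_xw : (List.range 3).all (fun i => chk (pw (xW ++ wW i) 3) []) = true := by ((try (rewrite [Cfsg.Agent.LsF.fccbb44_32.2, Cfsg.Agent.LsF.fccbb44_33.2, Cfsg.Agent.LsF.fccbb44_37.2, Cfsg.Agent.LsF.lappend_pat, Cfsg.Agent.LsF.all_eq, Cfsg.Agent.LsF.range_eq])); decide +kernel)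
theorem r_a13 : chk (pw aW 13) [] = true := by decide +kernel
theorem r_b13 : chk (pw bW 13) [] = true := by decide +kernel
theorem r_ab : chk (aW ++ bW) (bW ++ aW) = true := by decide +kernel
theorem r_a1a : chk (a1W ++ aW) (pw aW 5 ++ a1W) = true := by decide +kernel
theorem r_b1b : chk (b1W ++ bW) (pw bW 5 ++ b1W) = true := by decide +kernel
theorem r_a1b : chk (a1W ++ bW) (bW ++ a1W) = true := by decide +kernel
theorem r_b1a : chk (b1W ++ aW) (aW ++ b1W) = true := by decide +kernel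
theorem r_g1 : chk (g1W ++ aW ++ pw bW 2) (xW ++ g1W) = true := by decide +kernel
theorem r_g2 : chk (g2W ++ aW ++ pw bW 4) (xW ++ g2W) = true := by decide +kernel

theorem tr_x : trc (ev xW idM) = 0 := by decide +kernel
theorem tr_a : trc (ev aW idM) = 5 ∧ trc (ev (pw aW 2) idM) = 7 ∧ trc (ev (pw aW 4) idM) = 3 := by decide +kernel
theorem tr_b : trc (ev bW idM) = 5 ∧ trc (ev (pw bW 2) idM) = 7 ∧ trc (ev (pw bW 4) idM) = 3 := by decide +kernel
theorem tr_ab : trc (ev (aW ++ bW) idM) = 3 ∧ trc (ev (pw aW 2 ++ pw bW 2) idM) = 5 ∧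
    trc (ev (pw aW 4 ++ pw bW 4) idM) = 7 := by decide +kernel
theorem tr_w : trc (ev (wW 0 ++ pw sW 3 ++ xW) idM) = 7 ∧ trc (ev (wW 1 ++ pw sW 3 ++ xW) idM) = 3 ∧
    trc (ev (wW 2 ++ pw sW 3 ++ xW) idM) = 5 := by decide +kernel

end Cfsg.Agent.H857.Ree8.Data
end

-- part: H857/Ree8/Enum
section
/-!
# Kernel enumerations over the candidates for `C(s)`
-/

set_option autoImplicit false
set_option maxRecDepth 20000

namespace Cfsg.Agent.H857.Ree8.Enum

open Cfsg.Agent.H857.Ree8.Root Cfsg.Agent.H857.Ree8.Code Cfsg.Agent.H857.Ree8.Word Cfsg.Agent.H857.Ree8.Data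
open Cfsg.Agent.H857.Ree8.Word.Tok

/-- `a ^ 2 + a + 1` -/
def qa (a : ℕ) : ℕ := Nat.xor (xS.sq a) (Nat.xor a 1)

/-- the elements of `LO` commuting with `d`: `8` for the identity -/
def lW (a : ℕ) : List Tok := cond (Nat.beq a 8) [] [o 0 a, o 4 (gi (qa a)), o 0 (Nat.xor a 1)]

/-- the test that an element commutes with `s` -/
def tS (u t a : ℕ) : Bool :=
  !(beqM (ev (gEW u t 0 ++ lW a ++ sW) idM) (ev (sW ++ gEW u t 0 ++ lW a) idM)) ||
    (Nat.beq t (sg u) && (Nat.beq a 8 || (Nat.beq a 0 || Nat.beq a 1)))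

/-- `o 2 s` can be split off -/
theorem split_all : ((List.range 8).all fun u => (List.range 8).all fun t => (List.range 8).all fun s =>
    chk (gEW u t s) ([o 2 s] ++ gEW u t 0)) = true := by
  ((try (rewrite [Cfsg.Agent.LsF.fccbb44_32.2, Cfsg.Agent.LsF.fccbb44_36.2, Cfsg.Agent.LsF.lappend_pat, Cfsg.Agent.LsF.all_eq, Cfsg.Agent.LsF.range_eq])); decide +kernel)

theorem o2_s : ((List.range 8).all fun s => chk ([o 2 s] ++ sW) (sW ++ [o 2 s])) = true := by decide +kernel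

/-- the candidates for `C(s)` -/
def cW (u r k : ℕ) : List Tok := gEW u (sg u) r ++ lW (cond (Nat.beq k 0) 8 (Nat.pred k))

/-- the test for involutions -/
def tN (u r k : ℕ) : Bool :=
  Nat.beq (ev (cW u r k) idM) idM || (!(beqM (ev (cW u r k ++ cW u r k) idM) idM) ||
    !(beqM (ev (cW u r k ++ (xW ++ cW u r k ++ inv xW)) idM) (ev ((xW ++ cW u r k ++ inv xW) ++ cW u r k) idM)))


/-- the test for the elements inverting `s` -/
def tW (u r k : ℕ) : Bool :=
  !(beqM (ev (pw (xW ++ (wW 0 ++ cW u r k)) 3) idM) idM) ||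
    (Nat.beq (ev (wW 0 ++ cW u r k) idM) (ev (wW 0) idM) || (Nat.beq (ev (wW 0 ++ cW u r k) idM) (ev (wW 1) idM) ||
      Nat.beq (ev (wW 0 ++ cW u r k) idM) (ev (wW 2) idM)))


private def ones : ℕ → ℕ
  | 0 => 0
  | n + 1 => 2 ^ 78 * ones n + 1

private theorem land_ones (Y n : ℕ) : Y &&& ones (n + 1) = 2 ^ 78 * ((Y >>> 78) &&& ones n) + Y % 2 ^ 1 := by
  refine Nat.eq_of_testBit_eq fun j => ?_
  show (Y &&& (2 ^ 78 * ones n + 1)).testBit j = _
  rw [Nat.testBit_and, Nat.testBit_two_pow_mul_add _ (by decide : 1 < 2 ^ 78),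
    Nat.testBit_two_pow_mul_add _ ((Nat.mod_lt _ (by decide)).trans (by decide : 2 ^ 1 < 2 ^ 78))]
  by_cases h : j < 78
  · rw [if_pos h, if_pos h, Nat.testBit_mod_two_pow, Bool.and_comm]
    cases j with
    | zero => rfl
    | succ j => exact congrArg₂ _ (Nat.testBit_succ 1 j |>.trans (Nat.zero_testBit j)) rfl
  · rw [if_neg h, if_neg h, Nat.testBit_and, Nat.testBit_shiftRight, Nat.add_sub_cancel' (Nat.le_of_not_lt h)]

private theorem mul_bit {r p : ℕ} (hr : r < 2 ^ 78) (hp : p < 78) (n : ℕ) : ∀ Y i, i < n →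
    ((Y &&& ones n) * r).testBit (78 * i + p) = (Y.testBit (78 * i) && r.testBit p) := by
  induction n with
  | zero => exact fun _ _ h => absurd h (Nat.not_lt_zero _)
  | succ n ih =>
    intro Y i hi
    have hb : Y % 2 ^ 1 * r < 2 ^ 78 :=
      lt_of_le_of_lt ((Nat.mul_le_mul_right r (Nat.le_of_lt_succ (Nat.mod_lt Y (by decide : 0 < 2 ^ 1)))).trans_eq (Nat.one_mul r)) hr
    rw [land_ones, Nat.add_mul, Nat.mul_assoc, Nat.testBit_two_pow_mul_add _ hb]
    cases i with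
    | zero =>
      rw [Nat.mul_zero, Nat.zero_add, if_pos hp, Nat.testBit_zero, Nat.pow_one]
      rcases Nat.mod_two_eq_zero_or_one Y with e | e <;> rw [e]
      · rw [Nat.zero_mul, Nat.zero_testBit]; rfl
      · rw [Nat.one_mul]; rfl
    | succ i =>
      rw [if_neg (by omega), show 78 * (i + 1) + p - 78 = 78 * i + p by omega, ih _ i (Nat.lt_of_succ_lt_succ hi),
        Nat.testBit_shiftRight, show 78 + 78 * i = 78 * (i + 1) by omega]

private def cm (A s B l : ℕ) : ℕ := Nat.mul (Nat.land (Nat.shiftRight A s) (nat_lit 0x40000000000000000001000000000000000000040000000000000000001000000000000000000040000000000000000001000000000000000000040000000000000000001000000000000000000040000000000000000001000000000000000000040000000000000000001000000000000000000040000000000000000001000000000000000000040000000000000000001000000000000000000040000000000000000001000000000000000000040000000000000000001000000000000000000040000000000000000001000000000000000000040000000000000000001000000000000000000040000000000000000001))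
  (Nat.mod (Nat.shiftRight B (Nat.mul 78 l)) 302231454903657293676544)

private theorem cm_bit (A s B l : ℕ) {i p : ℕ} (hi : i < 26) (hp : p < 78) :
    (cm A s B l).testBit (78 * i + p) = (A.testBit (78 * i + s) && B.testBit (78 * l + p)) := by
  have e : cm A s B l = ((A >>> s) &&& ones 26) * ((B >>> (78 * l)) % 2 ^ 78) := rfl
  rw [e, mul_bit (Nat.mod_lt _ (by decide)) hp 26 _ i hi, Nat.testBit_shiftRight, Nat.testBit_mod_two_pow,
    Nat.testBit_shiftRight, decide_eq_true hp, Bool.true_and, Nat.add_comm s]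

private def tk (M : ℕ) : ℕ := Nat.xor (Nat.xor (Nat.shiftRight (Nat.land M m2) 52) (Nat.shiftRight (Nat.land M m2) 26))
  (Nat.shiftLeft (Nat.land M m01) 26)

private def mA (A B C D n : ℕ) : ℕ :=
  Nat.rec 0 (fun l acc => Nat.xor acc (Nat.xor (cm A l B l) (Nat.xor (cm A (Nat.add l 26) C l) (cm A (Nat.add l 52) D l)))) n

private def mP (A B : ℕ) : ℕ := mA A B (tk B) (tk (tk B)) 26

section

variable {K : Type*} [Field K] [CharP K 2] [Finite K] {φ : K →+* K} (hφ : Cfsg.Agent.ChevalleyStructure.TwF4.TwistedFix.Rln φ (2 ^ 1)) {θ : K}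

private theorem co_cm (A s B l : ℕ) {i j : ℕ} (hi : i < 26) (hj : j < 26) :
    co θ (cm A s B l) (78 * i + j) = bk K (A.testBit (78 * i + s)) * co θ B (78 * l + j) := by
  have e : ∀ a b : Bool, bk K (a && b) = bk K a * bk K b := fun a b => by
    cases a
    · exact (zero_mul _).symm
    · exact (one_mul _).symm
  show bk K _ + bk K _ * θ + bk K _ * θ ^ 2 = _ * (bk K _ + bk K _ * θ + bk K _ * θ ^ 2)
  rw [Nat.add_assoc _ j 26, Nat.add_assoc _ j 52, Nat.add_assoc _ j 26, Nat.add_assoc _ j 52, cm_bit A s B l hi (by omega),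
    cm_bit A s B l hi (by omega), cm_bit A s B l hi (by omega), e, e, e]
  ring

private theorem co_mA (hθ : θ ^ 3 = θ + 1) (A B : ℕ) {i j : ℕ} (hi : i < 26) (hj : j < 26) (n : ℕ) (hn : n ≤ 26) :
    co θ (mA A B (th B) (th (th B)) n) (78 * i + j) = ∑ l ∈ Finset.range n, co θ A (78 * i + l) * co θ B (78 * l + j) := by
  induction n with
  | zero => exact co_zero θ _
  | succ n ih =>
    show co θ (mA A B (th B) (th (th B)) n ^^^ (cm A n B n ^^^ (cm A (n + 26) (th B) n ^^^ cm A (n + 52) (th (th B)) n))) _ = _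
    rw [Finset.sum_range_succ, co_xor, co_xor, co_xor, ih (Nat.le_of_succ_le hn), co_cm _ _ _ _ hi hj, co_cm _ _ _ _ hi hj,
      co_cm _ _ _ _ hi hj, co_th hθ (th B) _ _ hn hj, co_th hθ B _ _ hn hj, ← Nat.add_assoc, ← Nat.add_assoc]
    show _ = _ + (bk K _ + bk K _ * θ + bk K _ * θ ^ 2) * _
    ring

private theorem sem_mP (hθ : θ ^ 3 = θ + 1) (A B : ℕ) : sem θ (mP A B) = sem θ A * sem θ B := by
  ext i j
  have e : mP A B = mA A B (th B) (th (th B)) 26 := by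
    rw [th_eq (th B), th_eq B]
    rfl
  rw [e, sem_apply, co_mA hθ A B i.2 j.2 26 le_rfl, Matrix.mul_apply, Finset.sum_range]
  rfl

private theorem beq_iff (hθ : θ ^ 3 = θ + 1) (M N : ℕ) : beqM M N = true ↔ sem θ M = sem θ N := by
  refine ⟨fun h => ?_, fun h => by_contra fun w => not_sem_eq hθ (Bool.eq_false_iff.2 w) h⟩
  have h1 : M % (1 <<< 2028) = N % (1 <<< 2028) := Nat.eq_of_beq_eq_true h
  rw [Nat.one_shiftLeft] at h1
  have h2 : ∀ p < 2028, M.testBit p = N.testBit p := fun p hp => by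
    have h3 := congrArg (Nat.testBit · p) h1
    simpa only [Nat.testBit_mod_two_pow, decide_eq_true hp, Bool.true_and] using h3
  ext i j
  have hi := i.2
  have hj := j.2
  show bk K _ + bk K _ * θ + bk K _ * θ ^ 2 = bk K _ + bk K _ * θ + bk K _ * θ ^ 2
  rw [h2 _ (by omega), h2 (_ + 26) (by omega), h2 (_ + 52) (by omega)]

private def Rp (w : List Tok) (M : ℕ) : Prop := ok w = true ∧ sem θ M = AG K (wg hφ θ w)

variable {hφ}

private theorem Rp.ev (hθ : θ ^ 3 = θ + 1) {w : List Tok} (h : ok w = true) : Rp hφ (θ := θ) w (ev w idM) :=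
  ⟨h, sem_ev_id hφ hθ h⟩

private theorem Rp.mul (hθ : θ ^ 3 = θ + 1) {v w : List Tok} {M N : ℕ} (h : Rp hφ (θ := θ) v M) (k : Rp hφ (θ := θ) w N) :
    Rp hφ (θ := θ) (v ++ w) (mP M N) :=
  ⟨ok_append.trans (Bool.and_eq_true_iff.2 ⟨h.1, k.1⟩), by rw [sem_mP hθ, h.2, k.2, wg_append, map_mul]⟩

private theorem Rp.beq (hθ : θ ^ 3 = θ + 1) {v w : List Tok} {M N : ℕ} (h : Rp hφ (θ := θ) v M) (k : Rp hφ (θ := θ) w N) :
    beqM (Word.ev v idM) (Word.ev w idM) = beqM M N := by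
  rw [Bool.eq_iff_iff, beq_iff hθ, beq_iff hθ, sem_ev_id hφ hθ h.1, sem_ev_id hφ hθ k.1, h.2, k.2]

end

private def al (n : ℕ) (p : ℕ → Bool) : Bool := (List.range n).all p

private theorem al_of {n : ℕ} {p : ℕ → Bool} (h : al n p = true) {k : ℕ} (hk : k ∈ List.range n) : p k = true :=
  List.all_eq_true.1 h k hk

private def fb (x : ℕ) (f : ℕ → Bool) : Bool := f x

private theorem fb_eq (x : ℕ) (f : ℕ → Bool) : fb x f = f x := rfl

private theorem okA : (ok sW && ok xW && ok (inv xW) && ok (wW 0) && al 9 (fun a => ok (lW a)) &&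
    al 8 fun u => al 8 fun t => al 8 fun s => ok (gEW u t s)) = true := by decide +kernel

private theorem kS : (fb (ev sW idM) fun S => al 8 fun u => al 8 fun t => fb (ev (gEW u t 0) idM) fun G => fb (mP S G) fun H =>
    al 9 fun a => !(beqM (mP G (mP (ev (lW a) idM) S)) (mP H (ev (lW a) idM))) ||
      (Nat.beq t (sg u) && (Nat.beq a 8 || (Nat.beq a 0 || Nat.beq a 1)))) = true := by decide +kernel

private theorem pw3 (w : List Tok) : pw w 3 = w ++ (w ++ w) := congrArg (fun l => w ++ (w ++ l)) (List.append_nil w)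

private theorem kN : (fb (ev xW idM) fun X => fb (ev (inv xW) idM) fun Y => fb (mP X (ev (wW 0) idM)) fun W =>
    al 8 fun u => al 8 fun r => fb (ev (gEW u (sg u) r) idM) fun G => al 3 fun k =>
      fb (mP G (ev (lW (cond (Nat.beq k 0) 8 (Nat.pred k))) idM)) fun C =>
      (!(beqM (mP C C) idM) || (fb (mP (mP X C) Y) fun D => !(beqM (mP C D) (mP D C))) || Nat.beq (ev (cW u r k) idM) idM) &&
      (fb (mP W C) (fun D => !(beqM (mP D (mP D D)) idM)) || (Nat.beq (ev (wW 0 ++ cW u r k) idM) (ev (wW 0) idM) ||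
        (Nat.beq (ev (wW 0 ++ cW u r k) idM) (ev (wW 1) idM) || Nat.beq (ev (wW 0 ++ cW u r k) idM) (ev (wW 2) idM))))) = true := by
  decide +kernel

section

variable {K : Type*} [Field K] [CharP K 2] [Finite K] {φ : K →+* K} (hφ : Cfsg.Agent.ChevalleyStructure.TwF4.TwistedFix.Rln φ (2 ^ 1)) {θ : K} (hθ : θ ^ 3 = θ + 1)
include hφ hθ

private theorem tS_fast : ((List.range 8).all fun u => (List.range 8).all fun t => (List.range 9).all fun a => tS u t a) = true := by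
  have o := okA
  simp only [Bool.and_eq_true] at o
  obtain ⟨⟨⟨⟨⟨o1, -⟩, -⟩, -⟩, o5⟩, o6⟩ := o
  refine List.all_eq_true.2 fun u hu => List.all_eq_true.2 fun t ht => List.all_eq_true.2 fun a ha => ?_
  have h := kS
  rw [fb_eq] at h
  have h1 := al_of (al_of h hu) ht
  rw [fb_eq, fb_eq] at h1
  have S := Rp.ev (hφ := hφ) hθ o1
  have G := Rp.ev (hφ := hφ) hθ (al_of (al_of (al_of o6 hu) ht) (by decide : 0 ∈ List.range 8))
  have L := Rp.ev (hφ := hφ) hθ (al_of o5 ha)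
  delta tS
  rw [List.append_assoc (gEW u t 0), (G.mul hθ (L.mul hθ S)).beq hθ ((S.mul hθ G).mul hθ L)]
  exact al_of h1 ha

private theorem tNW {u r k : ℕ} (hu : u ∈ List.range 8) (hr : r ∈ List.range 8) (hk : k ∈ List.range 3) :
    tN u r k = true ∧ tW u r k = true := by
  have o := okA
  simp only [Bool.and_eq_true] at o
  obtain ⟨⟨⟨⟨⟨-, o2⟩, o3⟩, o4⟩, o5⟩, o6⟩ := o
  have h := kN
  rw [fb_eq, fb_eq, fb_eq] at h
  have h1 := al_of (al_of h hu) hr
  rw [fb_eq] at h1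
  have h2 := al_of h1 hk
  rw [fb_eq, fb_eq, fb_eq, Bool.and_eq_true] at h2
  have X := Rp.ev (hφ := hφ) hθ o2
  have Y := Rp.ev (hφ := hφ) hθ o3
  have W := X.mul hθ (Rp.ev (hφ := hφ) hθ o4)
  have E : Rp hφ [] idM := Rp.ev (hφ := hφ) hθ ok_nil
  have C : Rp hφ (cW u r k) _ := (Rp.ev (hφ := hφ) hθ
    (al_of (al_of (al_of o6 hu) ((by decide : ∀ u ∈ List.range 8, sg u ∈ List.range 8) u hu)) hr)).mul hθ (Rp.ev (hφ := hφ) hθ
      (al_of o5 ((by decide : ∀ k ∈ List.range 3, cond (Nat.beq k 0) 8 (Nat.pred k) ∈ List.range 9) k hk)))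
  have D := (X.mul hθ C).mul hθ Y
  have F := W.mul hθ C
  constructor
  · delta tN
    have e1 : beqM (ev (cW u r k ++ cW u r k) idM) idM = _ := (C.mul hθ C).beq hθ E
    rw [Bool.or_comm, (C.mul hθ D).beq hθ (D.mul hθ C), e1]
    exact h2.1
  · delta tW
    have e1 := (F.mul hθ (F.mul hθ F)).beq hθ E
    rw [show ev [] idM = idM from rfl] at e1
    rw [pw3, ← List.append_assoc xW, e1]
    exact h2.2

private theorem tN_fast : ((List.range 8).all fun u => (List.range 8).all fun r => (List.range 3).all fun k => tN u r k) = true :=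
  List.all_eq_true.2 fun _ hu => List.all_eq_true.2 fun _ hr => List.all_eq_true.2 fun _ hk => (tNW hφ hθ hu hr hk).1

private theorem tW_fast : ((List.range 8).all fun u => (List.range 8).all fun r => (List.range 3).all fun k => tW u r k) = true :=
  List.all_eq_true.2 fun _ hu => List.all_eq_true.2 fun _ hr => List.all_eq_true.2 fun _ hk => (tNW hφ hθ hu hr hk).2

end


private theorem ex_th {K : Type} [Field K] [Fintype K] [CharP K 2] (hK : Fintype.card K = 8) : ∃ θ : K, θ ^ 3 = θ + 1 := by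
  have h8 : Nat.card K = 8 := by rw [Nat.card_eq_fintype_card, hK]
  obtain ⟨c, hc⟩ := Cfsg.Agent.H496.TwEight.Card.exists_unit_of_card h8
  have h7 : Nat.card Kˣ = 7 := by rw [Nat.card_units, h8]
  have hz : c ^ 7 = 1 := by rw [← h7]; exact pow_card_eq_one'
  exact Cfsg.Agent.H496.TwEight.HOFacts.exists_t CharTwo.two_eq_zero (z := (c : K))
    (by rw [← Units.val_pow_eq_pow_val, hz, Units.val_one]) (fun h => hc (Units.ext h))

private theorem ex_F : ∃ (φ : GaloisField 2 3 →+* GaloisField 2 3) (θ : GaloisField 2 3),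
    Cfsg.Agent.ChevalleyStructure.TwF4.TwistedFix.Rln φ (2 ^ 1) ∧ θ ^ 3 = θ + 1 := by
  letI := Fintype.ofFinite (GaloisField 2 3)
  have h : Fintype.card (GaloisField 2 3) = 2 ^ 3 := Nat.card_eq_fintype_card.symm.trans (GaloisField.card 2 3 (by decide))
  obtain ⟨φ, h1⟩ := Cfsg.Agent.ChevalleyStructure.TwF4.TwistedFix.exists_rln (m := 1) h
  obtain ⟨θ, h2⟩ := ex_th h
  exact ⟨φ, θ, h1, h2⟩

theorem tS_all : ((List.range 8).all fun u => (List.range 8).all fun t => (List.range 9).all fun a => tS u t a) = true :=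
  let ⟨_, _, h1, h2⟩ := ex_F
  tS_fast h1 h2

theorem tN_all : ((List.range 8).all fun u => (List.range 8).all fun r => (List.range 3).all fun k => tN u r k) = true :=
  let ⟨_, _, h1, h2⟩ := ex_F
  tN_fast h1 h2

theorem tW_all : ((List.range 8).all fun u => (List.range 8).all fun r => (List.range 3).all fun k => tW u r k) = true :=
  let ⟨_, _, h1, h2⟩ := ex_F
  tW_fast h1 h2

end Cfsg.Agent.H857.Ree8.Enum
end

-- part: H519/TwFE
section
/-!
# S5936, task D of helper857: the centraliser in `HO = C(X_5)` of an element of order three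

`dd = o 4 1 * o 0 1`; `conj_nf` : conjugation by `dd` in the coordinates of `NO`; `gEg u w s` : the elements of `NO`
commuting with `dd` (every field); `gE u t s = gEg u (t ^ 2) s` when `σ (x ^ 2) = x` (`sig_sq_of_card` : `GF(8)`);
`gE_comm`, `of_NO`, `of_LO`, `of_HO`.
-/

set_option autoImplicit false
set_option linter.unusedSectionVars false
set_option linter.unusedSimpArgs false

namespace Cfsg.Agent.H519.TwFE

open Cfsg.Agent.SplitTwo Cfsg.Agent.SplitTwo.ZS Cfsg.Agent.TitsThree.RankTwoZ Cfsg.Agent.KFacts.TwF4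
open Cfsg.Agent.SplitTwo.RootSysZ

universe u

variable {F : Type*} [Field F] {σ : F →+* F} {G : Type u} [Group G] (S : Full σ G)

/-! ### collection rules -/

section rules

theorem tail {a b c : G} (h : a * b = c) (X : G) : a * (b * X) = c * X := by rw [← mul_assoc, h]

theorem m1 (u v : F) : S.e 1 0 u * S.e 1 0 v = S.e 1 0 (u + v) := by rw [S.e_mul, zero_mul, add_zero, add_zero]
theorem m4 (u v : F) : S.e 4 0 u * S.e 4 0 v = S.e 4 0 (u + v) := by rw [S.e_mul, zero_mul, add_zero, add_zero]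
theorem mo (a : ZMod 8) (u v : F) : S.o a u * S.o a v = S.o a (u + v) := S.o_add a u v
theorem me (a : ZMod 8) (p u q v : F) : S.e a p u * S.e a q v = S.e a (p + q) (u + v + p * σ q) := S.e_mul a p u q v

theorem B1A1 (t u : F) : S.o 1 t * S.e 1 0 u = S.e 1 0 u * S.o 1 t := (S.e_o0 1 0 u t).symm
theorem A2A1 (q v u : F) : S.e 2 q v * S.e 1 0 u = S.e 1 0 u * S.e 2 q v := by
  have h : S.e 1 0 u * S.e 2 q v = S.e 2 q v * S.e 1 0 u * S.o 1 (0 * q) := S.e_e1 1 0 u q v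
  rw [zero_mul, S.o_zero, mul_one] at h
  exact h.symm
theorem A2B1 (q v t : F) : S.e 2 q v * S.o 1 t = S.o 1 t * S.e 2 q v := (S.o_e1 1 t q v).symm
theorem B2A1 (s u : F) : S.o 2 s * S.e 1 0 u = S.e 1 0 u * S.o 2 s := by
  have h : S.e 1 0 u * S.o 2 s = S.o 2 s * S.e 1 0 u * S.e 2 0 (0 * s) := S.e_o1 1 0 u s
  rw [zero_mul, S.e_zero, mul_one] at h
  exact h.symm
theorem B2B1 (s t : F) : S.o 2 s * S.o 1 t = S.o 1 t * S.o 2 s := (S.o_o1 1 t s).symm
theorem B2A2 (s q v : F) : S.o 2 s * S.e 2 q v = S.e 2 q v * S.o 2 s := (S.e_o0 2 q v s).symm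
theorem A3A1 (q v u : F) : S.e 3 q v * S.e 1 0 u = S.e 1 0 u * S.e 3 q v := (S.e_e2 1 0 u q v).symm
theorem A3B2 (q v t : F) : S.e 3 q v * S.o 2 t = S.o 2 t * S.e 3 q v := (S.o_e1 2 t q v).symm
theorem A3A20 (q v u : F) : S.e 3 q v * S.e 2 0 u = S.e 2 0 u * S.e 3 q v := by
  have h : S.e 2 0 u * S.e 3 q v = S.e 3 q v * S.e 2 0 u * S.o 2 (0 * q) := S.e_e1 2 0 u q v
  rw [zero_mul, S.o_zero, mul_one] at h
  exact h.symm
theorem e0_sq (a : ZMod 8) (u : F) : S.e a 0 u * S.e a 0 u = 1 := by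
  rw [S.e_mul, zero_mul, add_zero, add_zero, S.add_self, S.e_zero]
theorem o_sq (a : ZMod 8) (t : F) : S.o a t * S.o a t = 1 := by rw [S.o_add, S.add_self, S.o_zero]

theorem swap {x y z : G} (h : x * y = y * x * z) (hz : z * z = 1) (hc : y * z = z * y) : y * x = x * (z * y) := by
  rw [← hc, ← mul_assoc, h, mul_assoc, mul_assoc, hz, mul_one]

theorem A3B1 (q v t : F) : S.e 3 q v * S.o 1 t = S.o 1 t * (S.e 2 0 (t * q) * S.e 3 q v) :=
  swap (S.o_e2 1 t q v) (e0_sq S 2 _) (A3A20 S q v _)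
theorem A3A2 (q v p u : F) : S.e 3 q v * S.e 2 p u = S.e 2 p u * (S.o 2 (p * q) * S.e 3 q v) :=
  swap (S.e_e1 2 p u q v) (o_sq S 2 _) (A3B2 S q v _)
theorem B3B1 (s t : F) : S.o 3 s * S.o 1 t = S.o 1 t * S.o 3 s := (S.o_o2 1 t s).symm
theorem B3A3 (s q v : F) : S.o 3 s * S.e 3 q v = S.e 3 q v * S.o 3 s := (S.e_o0 3 q v s).symm
theorem B3A2 (s p u : F) : S.o 3 s * S.e 2 p u = S.e 2 p u * (S.e 3 0 (p * s) * S.o 3 s) :=
  swap (S.e_o1 2 p u s) (e0_sq S 3 _) (B3A3 S s _ _)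
theorem B3A20 (s u : F) : S.o 3 s * S.e 2 0 u = S.e 2 0 u * S.o 3 s := by
  rw [B3A2, zero_mul, S.e_zero, one_mul]
theorem B3B2 (s t : F) : S.o 3 s * S.o 2 t = S.o 2 t * S.o 3 s := (S.o_o1 2 t s).symm
theorem B3A1 (s u : F) : S.o 3 s * S.e 1 0 u = S.e 1 0 u * (S.e 2 0 (u * s) * S.o 3 s) := by
  refine swap ?_ (e0_sq S 2 _) (B3A20 S s _)
  have h : S.e 1 0 u * S.o 3 s = S.o 3 s * S.e 1 0 u * S.e 2 0 (0 * σ 0 * s + u * s) * S.o 2 (σ 0 * s) * S.e 3 0 (0 * σ s) :=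
    S.e_o2 1 0 u s
  rw [h, map_zero, zero_mul, zero_mul, zero_mul, zero_add, S.o_zero, S.e_zero, mul_one, mul_one]
theorem A4A2 (v p u : F) : S.e 4 0 v * S.e 2 p u = S.e 2 p u * S.e 4 0 v := (S.e_e2 2 p u 0 v).symm
theorem A4B2 (v t : F) : S.e 4 0 v * S.o 2 t = S.o 2 t * S.e 4 0 v := by
  have h : S.o 2 t * S.e 4 0 v = S.e 4 0 v * S.o 2 t * S.e 3 0 (t * 0) := S.o_e2 2 t 0 v
  rw [mul_zero, S.e_zero, mul_one] at h
  exact h.symm
theorem A4A3 (v p u : F) : S.e 4 0 v * S.e 3 p u = S.e 3 p u * S.e 4 0 v := by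
  have h : S.e 3 p u * S.e 4 0 v = S.e 4 0 v * S.e 3 p u * S.o 3 (p * 0) := S.e_e1 3 p u 0 v
  rw [mul_zero, S.o_zero, mul_one] at h
  exact h.symm
theorem A4B3 (v t : F) : S.e 4 0 v * S.o 3 t = S.o 3 t * S.e 4 0 v := (S.o_e1 3 t 0 v).symm
theorem A4B1 (v t : F) : S.e 4 0 v * S.o 1 t = S.o 1 t * (S.e 3 0 (t * v) * S.e 4 0 v) := by
  refine swap ?_ (e0_sq S 3 _) (A4A3 S v _ _)
  have h : S.o 1 t * S.e 4 0 v = S.e 4 0 v * S.o 1 t * S.e 2 0 (σ t * 0) * S.o 2 (t * σ 0) * S.e 3 0 (t * 0 * σ 0 + t * v) :=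
    S.o_e3 1 t 0 v
  rw [h, map_zero, mul_zero, mul_zero, mul_zero, zero_add, S.o_zero, S.e_zero, mul_one, mul_one]
theorem A4A1 (v u : F) : S.e 4 0 v * S.e 1 0 u =
    S.e 1 0 u * (S.e 2 0 (σ u * v) * (S.o 2 (u * v) * (S.e 3 0 (u * σ v) * S.e 4 0 v))) := by
  have h : S.e 1 0 u * S.e 4 0 v = S.e 4 0 v * S.e 1 0 u * (S.e 2 0 (σ u * v) * S.o 2 (u * v) * S.e 3 0 (u * σ v)) := by
    have h0 := S.e_e3 1 0 u 0 v
    have e : (1 : ZMod 8) + 3 = 4 := by decide
    have e1 : (1 : ZMod 8) + 1 = 2 := by decide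
    have e2 : (1 : ZMod 8) + 2 = 3 := by decide
    rw [e, e1, e2] at h0
    simp only [map_zero, zero_mul, mul_zero, zero_add, add_zero, S.o_zero, S.e_zero, mul_one] at h0
    rw [h0]
    simp only [mul_assoc]
  have hz : (S.e 2 0 (σ u * v) * S.o 2 (u * v) * S.e 3 0 (u * σ v)) * (S.e 2 0 (σ u * v) * S.o 2 (u * v) * S.e 3 0 (u * σ v)) = 1 := by
    calc (S.e 2 0 (σ u * v) * S.o 2 (u * v) * S.e 3 0 (u * σ v)) * (S.e 2 0 (σ u * v) * S.o 2 (u * v) * S.e 3 0 (u * σ v)) =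
        S.e 2 0 (σ u * v) * S.o 2 (u * v) * (S.e 3 0 (u * σ v) * S.e 2 0 (σ u * v)) * (S.o 2 (u * v) * S.e 3 0 (u * σ v)) := by group
      _ = S.e 2 0 (σ u * v) * (S.o 2 (u * v) * S.e 2 0 (σ u * v)) * (S.e 3 0 (u * σ v) * S.o 2 (u * v)) * S.e 3 0 (u * σ v) := by
          rw [A3A20]; group
      _ = (S.e 2 0 (σ u * v) * S.e 2 0 (σ u * v)) * (S.o 2 (u * v) * S.o 2 (u * v)) * (S.e 3 0 (u * σ v) * S.e 3 0 (u * σ v)) := by
          rw [A3B2, B2A2]; group
      _ = 1 := by rw [e0_sq, o_sq, e0_sq, one_mul, one_mul]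
  have hc : S.e 4 0 v * (S.e 2 0 (σ u * v) * S.o 2 (u * v) * S.e 3 0 (u * σ v)) =
      (S.e 2 0 (σ u * v) * S.o 2 (u * v) * S.e 3 0 (u * σ v)) * S.e 4 0 v := by
    rw [← mul_assoc, ← mul_assoc, A4A2, mul_assoc _ (S.e 4 0 v), A4B2, mul_assoc _ _ (S.e 3 0 _), mul_assoc _ (S.e 4 0 v), A4A3]
    group
  rw [swap h hz hc]
  simp only [mul_assoc]

/-! #### moving `o 0 1` to the right -/

theorem cA1 (u : F) : S.o 0 1 * S.e 1 0 u = S.e 1 0 u * S.o 0 1 := S.o_e1 0 1 0 u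
theorem cB1 (t : F) : S.o 0 1 * S.o 1 t = S.o 1 t * S.o 0 1 := S.o_o1 0 1 t
theorem cA2 (q v : F) : S.o 0 1 * S.e 2 q v = S.e 1 0 q * (S.e 2 q v * S.o 0 1) := by
  have h : S.o 0 1 * S.e 2 q v = S.e 2 q v * S.o 0 1 * S.e 1 0 (1 * q) := S.o_e2 0 1 q v
  rw [one_mul] at h
  rw [h, mul_assoc, cA1, ← mul_assoc, A2A1, mul_assoc]
theorem cB2 (t : F) : S.o 0 1 * S.o 2 t = S.o 2 t * S.o 0 1 := S.o_o2 0 1 t
theorem cA3 (q v : F) : S.o 0 1 * S.e 3 q v =
    S.e 3 q v * (S.o 0 1 * (S.e 1 0 q * (S.o 1 (σ q) * S.e 2 0 (q * σ q + v)))) := by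
  have h : S.o 0 1 * S.e 3 q v = S.e 3 q v * S.o 0 1 * S.e 1 0 (σ 1 * q) * S.o 1 (1 * σ q) * S.e 2 0 (1 * q * σ q + 1 * v) :=
    S.o_e3 0 1 q v
  rw [h]
  simp only [map_one, one_mul, mul_assoc]
theorem cB3 (s : F) : S.o 0 1 * S.o 3 s = S.o 3 s * (S.o 0 1 * (S.o 1 s * S.o 2 (σ s))) := by
  have h : S.o 0 1 * S.o 3 s = S.o 3 s * S.o 0 1 * S.o 1 (σ 1 * s) * S.o 2 (1 * σ s) := S.o_o3 0 1 s
  rw [h]
  simp only [map_one, one_mul, mul_assoc]
theorem cA4 (v : F) : S.o 0 1 * S.e 4 0 v = S.e 4 0 v * (S.o 0 1 * (S.e 1 0 v * (S.o 1 (σ v) * (S.e 2 v (v * σ v) *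
    (S.o 2 (v * v) * (S.e 3 v 0 * S.o 3 (σ v))))))) := by
  have h0 := S.o_e4 0 1 0 v
  have e : (0 : ZMod 8) + 4 = 4 := by decide
  have e1 : (0 : ZMod 8) + 1 = 1 := by decide
  have e2 : (0 : ZMod 8) + 2 = 2 := by decide
  have e3 : (0 : ZMod 8) + 3 = 3 := by decide
  rw [e, e1, e2, e3] at h0
  simp only [map_zero, map_one, zero_mul, mul_zero, zero_add, add_zero, mul_one, one_mul] at h0
  rw [h0]
  simp only [mul_assoc]

end rules

/-- the normal form of the elements of `NO` -/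
def nf (u1 t1 p2 u2 t2 p3 u3 t3 u4 : F) : G :=
  S.e 1 0 u1 * (S.o 1 t1 * (S.e 2 p2 u2 * (S.o 2 t2 * (S.e 3 p3 u3 * (S.o 3 t3 * S.e 4 0 u4)))))

attribute [-instance] instNoNatZeroDivisorsOfIsAddTorsionFree instIsCharPOfIsLeftCancelAddOfCharP in
/-- conjugation of `nf` by `dd` -/
theorem conj_nf (u1 t1 p2 u2 t2 p3 u3 t3 u4 : F) :
    S.o 0 1 * (S.n1 * nf S u1 t1 p2 u2 t2 p3 u3 t3 u4 * S.n1⁻¹) =
      nf S (p2 + p3 + u1 + u4) (σ p2 + t1 + t3 + σ u1) (p3 + u1)
        (p2 * t1 + p2 * t3 + p2 * σ u1 + p3 * t1 + p3 * σ u1 + t1 * u1 + t1 * u4 + t3 * u1 + u1 * σ u1 + u1 * σ u4 + σ u1 * u4 + u2 + u3)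
        (p2 * p3 + p2 * u1 + σ t1 + t2 + u1 * u4 + u1 ^ 2) (p2 + u1)
        (p2 * σ u1 + p3 * t1 + t1 * u1 + t3 * u1 + σ u1 * u4 + u2) (t1 + σ u1) u1 * S.o 0 1 := by
  have h1 : S.n1 * nf S u1 t1 p2 u2 t2 p3 u3 t3 u4 * S.n1⁻¹ =
      S.e 4 0 u1 * (S.o 3 t1 * (S.e 3 p2 u2 * (S.o 2 t2 * (S.e 2 p3 u3 * (S.o 1 t3 * S.e 1 0 u4))))) := by
    have hc : ∀ x y : G, S.n1 * (x * y) * S.n1⁻¹ = (S.n1 * x * S.n1⁻¹) * (S.n1 * y * S.n1⁻¹) := fun x y => by group
    have e1 := S.n1_e 1 0 u1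
    have e2 := S.n1_o 1 t1
    have e3 := S.n1_e 2 p2 u2
    have e4 := S.n1_o 2 t2
    have e5 := S.n1_e 3 p3 u3
    have e6 := S.n1_o 3 t3
    have e7 := S.n1_e 4 0 u4
    rw [nf, hc, hc, hc, hc, hc, hc, e1, e2, e3, e4, e5, e6, e7]
    have k1 : (5 : ZMod 8) - 1 = 4 := by decide
    have k2 : (4 : ZMod 8) - 1 = 3 := by decide
    have k3 : (5 : ZMod 8) - 2 = 3 := by decide
    have k4 : (4 : ZMod 8) - 2 = 2 := by decide
    have k5 : (5 : ZMod 8) - 3 = 2 := by decide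
    have k6 : (4 : ZMod 8) - 3 = 1 := by decide
    have k7 : (5 : ZMod 8) - 4 = 1 := by decide
    rw [k1, k2, k3, k4, k5, k6, k7]
  rw [h1, nf]
  simp only [mul_assoc, cA1, cB1, cA2, cB2, cA3, cB3, cA4, tail (cA1 S _), tail (cB1 S _), tail (cA2 S _ _), tail (cB2 S _),
    tail (cA3 S _ _), tail (cB3 S _), tail (cA4 S _)]
  simp only [mul_assoc, tail (B1A1 S _ _), tail (A2A1 S _ _ _), tail (A2B1 S _ _ _), tail (B2A1 S _ _), tail (B2B1 S _ _),
    tail (B2A2 S _ _ _), tail (A3A1 S _ _ _), tail (A3B2 S _ _ _), tail (A3B1 S _ _ _), tail (A3A2 S _ _ _ _),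
    tail (B3B1 S _ _), tail (B3A3 S _ _ _), tail (B3A2 S _ _ _), tail (B3B2 S _ _), tail (B3A1 S _ _),
    tail (A4A2 S _ _ _), tail (A4B2 S _ _), tail (A4A3 S _ _ _), tail (A4B3 S _ _), tail (A4B1 S _ _), tail (A4A1 S _ _),
    tail (m1 S _ _), tail (m4 S _ _), tail (mo S _ _ _), tail (me S _ _ _ _ _)]
  simp only [map_add, map_zero, S.sq]
  have h2 := S.two
  refine congrArg₂ (· * ·) (congrArg (S.e 1 0) ?_) (congrArg₂ (· * ·) (congrArg (S.o 1) ?_)
    (congrArg₂ (· * ·) (congrArg₂ (S.e 2) ?_ ?_) (congrArg₂ (· * ·) (congrArg (S.o 2) ?_)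
    (congrArg₂ (· * ·) (congrArg₂ (S.e 3) ?_ ?_) (congrArg₂ (· * ·) (congrArg (S.o 3) ?_) rfl)))))
  all_goals (clear * - h2; grobner)

/-! ### uniqueness of the normal form -/

theorem peel {k : ℤ} (hk : 1 ≤ k) {a a' X X' : G} (ha : a ∈ S.XZ k) (ha' : a' ∈ S.XZ k) (hX : X ∈ J S.XZ (k + 1) 8)
    (hX' : X' ∈ J S.XZ (k + 1) 8) (h : a * X = a' * X') : a = a' ∧ X = X' := by
  have h1 : a'⁻¹ * a = X' * X⁻¹ := by
    have : a'⁻¹ * (a * X) * X⁻¹ = a'⁻¹ * (a' * X') * X⁻¹ := by rw [h]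
    simpa [mul_assoc] using this
  have h2 : a'⁻¹ * a = 1 := S.zsys8.inter k _ (mul_mem (inv_mem ha') ha) (by
    rw [h1]
    exact J_mono le_rfl (by omega) (mul_mem hX' (inv_mem hX)))
  have h3 : a = a' := (inv_mul_eq_one.1 h2).symm
  subst h3
  exact ⟨rfl, mul_left_cancel h⟩

theorem nf_inj {u1 t1 p2 u2 t2 p3 u3 t3 u4 u1' t1' p2' u2' t2' p3' u3' t3' u4' : F}
    (h : nf S u1 t1 p2 u2 t2 p3 u3 t3 u4 = nf S u1' t1' p2' u2' t2' p3' u3' t3' u4') :
    u1 = u1' ∧ t1 = t1' ∧ p2 = p2' ∧ u2 = u2' ∧ t2 = t2' ∧ p3 = p3' ∧ u3 = u3' ∧ t3 = t3' ∧ u4 = u4' := by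
  have j8 : ∀ u, S.e 4 0 u ∈ J S.XZ 8 8 := fun u => mem_J (S.mX8 0 u) (by norm_num) (by norm_num)
  have j7 : ∀ t u, S.o 3 t * S.e 4 0 u ∈ J S.XZ 7 8 := fun t u =>
    mul_mem (mem_J (S.mX7 t) (by norm_num) (by norm_num)) (J_mono (by norm_num) le_rfl (j8 u))
  have j6 : ∀ p v t u, S.e 3 p v * (S.o 3 t * S.e 4 0 u) ∈ J S.XZ 6 8 := fun p v t u =>
    mul_mem (mem_J (S.mX6 p v) (by norm_num) (by norm_num)) (J_mono (by norm_num) le_rfl (j7 t u))
  have j5 : ∀ s p v t u, S.o 2 s * (S.e 3 p v * (S.o 3 t * S.e 4 0 u)) ∈ J S.XZ 5 8 := fun s p v t u =>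
    mul_mem (mem_J (S.mX5 s) (by norm_num) (by norm_num)) (J_mono (by norm_num) le_rfl (j6 p v t u))
  have j4 : ∀ q w s p v t u, S.e 2 q w * (S.o 2 s * (S.e 3 p v * (S.o 3 t * S.e 4 0 u))) ∈ J S.XZ 4 8 := fun q w s p v t u =>
    mul_mem (mem_J (S.mX4 q w) (by norm_num) (by norm_num)) (J_mono (by norm_num) le_rfl (j5 s p v t u))
  have j3 : ∀ x q w s p v t u, S.o 1 x * (S.e 2 q w * (S.o 2 s * (S.e 3 p v * (S.o 3 t * S.e 4 0 u)))) ∈ J S.XZ 3 8 :=
    fun x q w s p v t u =>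
    mul_mem (mem_J (S.mX3 x) (by norm_num) (by norm_num)) (J_mono (by norm_num) le_rfl (j4 q w s p v t u))
  obtain ⟨a1, h⟩ := peel S (k := 2) (by norm_num) (S.mX2 0 _) (S.mX2 0 _) (j3 _ _ _ _ _ _ _ _) (j3 _ _ _ _ _ _ _ _) h
  obtain ⟨a2, h⟩ := peel S (k := 3) (by norm_num) (S.mX3 _) (S.mX3 _) (j4 _ _ _ _ _ _ _) (j4 _ _ _ _ _ _ _) h
  obtain ⟨a3, h⟩ := peel S (k := 4) (by norm_num) (S.mX4 _ _) (S.mX4 _ _) (j5 _ _ _ _ _) (j5 _ _ _ _ _) h
  obtain ⟨a4, h⟩ := peel S (k := 5) (by norm_num) (S.mX5 _) (S.mX5 _) (j6 _ _ _ _) (j6 _ _ _ _) h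
  obtain ⟨a5, h⟩ := peel S (k := 6) (by norm_num) (S.mX6 _ _) (S.mX6 _ _) (j7 _ _) (j7 _ _) h
  obtain ⟨a6, h⟩ := peel S (k := 7) (by norm_num) (S.mX7 _) (S.mX7 _) (j8 _) (j8 _) h
  exact ⟨(S.injE _ _ _ _ _ a1).2, S.injO _ a2, (S.injE _ _ _ _ _ a3).1, (S.injE _ _ _ _ _ a3).2, S.injO _ a4,
    (S.injE _ _ _ _ _ a5).1, (S.injE _ _ _ _ _ a5).2, S.injO _ a6, (S.injE _ _ _ _ _ h).2⟩

theorem exists_nf {r : G} (hr : r ∈ S.NO) : ∃ u1 t1 p2 u2 t2 p3 u3 t3 u4, r = nf S u1 t1 p2 u2 t2 p3 u3 t3 u4 := by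
  obtain ⟨u1, u4, r', hr', e0⟩ := S.mem_NO_iff.1 hr
  have Z8 := S.zsys8
  obtain ⟨x3, h3, r4, hr4, e3⟩ := Z8.split_ll (a := 3) (b := 7) (by norm_num) (by norm_num) hr'
  have hr4' : r4 ∈ J S.XZ 4 7 := hr4
  obtain ⟨x4, h4, r5, hr5, e4⟩ := Z8.split_ll (a := 4) (b := 7) (by norm_num) (by norm_num) hr4'
  have hr5' : r5 ∈ J S.XZ 5 7 := hr5
  obtain ⟨x5, h5, r6, hr6, e5⟩ := Z8.split_ll (a := 5) (b := 7) (by norm_num) (by norm_num) hr5'
  have hr6' : r6 ∈ J S.XZ 6 7 := hr6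
  obtain ⟨x6, h6, x7, hr7, e6⟩ := Z8.split_ll (a := 6) (b := 7) (by norm_num) (by norm_num) hr6'
  have hr7' : x7 ∈ J S.XZ 7 7 := hr7
  have h7 : x7 ∈ S.XZ 7 := mem_of_J_self hr7' le_rfl
  obtain ⟨t1, k1⟩ := S.X3 h3
  obtain ⟨p2, u2, k2⟩ := S.X4 h4
  obtain ⟨t2, k3⟩ := S.X5 h5
  obtain ⟨p3, u3, k4⟩ := S.X6 h6
  obtain ⟨t3, k5⟩ := S.X7 h7
  refine ⟨u1, t1, p2, u2, t2, p3, u3, t3, u4, ?_⟩
  rw [nf, e0, e3, e4, e5, e6, k1, k2, k3, k4, k5]
  simp only [mul_assoc]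

/-! ### the centraliser of `dd` in `NO` -/

/-- an element of order three of `LO` -/
def dd : G := S.o 4 1 * S.o 0 1

theorem dd_eq : dd S = S.o 0 1 * S.n1 := by
  rw [dd, S.n1_word, ← mul_assoc, ← mul_assoc, o_sq, one_mul]

theorem dd_LO : dd S ∈ S.LO := mul_mem (Subgroup.mem_sup_right (S.mX9 1)) (Subgroup.mem_sup_left (S.mX1 1))

/-- `nf` commutes with `dd` iff the coordinates agree -/
theorem comm_iff {r : G} : r * dd S = dd S * r ↔ S.o 0 1 * (S.n1 * r * S.n1⁻¹) = r * S.o 0 1 := by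
  rw [dd_eq]
  constructor
  · intro h
    calc S.o 0 1 * (S.n1 * r * S.n1⁻¹) = (S.o 0 1 * S.n1 * r) * S.n1⁻¹ := by group
      _ = r * S.o 0 1 := by rw [← h]; group
  · intro h
    calc r * (S.o 0 1 * S.n1) = (r * S.o 0 1) * S.n1 := by group
      _ = S.o 0 1 * S.n1 * r := by rw [← h]; group

/-- the elements of `NO` commuting with `dd` -/
def gEg (u w s : F) : G :=
  S.e 1 0 u * S.o 1 (σ w) * S.e 2 w (u * σ w + u * σ u) * S.o 2 s * S.e 3 (w + u) (w * σ w + w * σ u + u * σ u) *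
    S.o 3 (σ w + σ u) * S.e 4 0 u

theorem gEg_eq (u w s : F) : gEg S u w s = nf S u (σ w) w (u * σ w + u * σ u) s (w + u) (w * σ w + w * σ u + u * σ u)
    (σ w + σ u) u := by
  rw [gEg, nf]
  simp only [mul_assoc]

attribute [-instance] instNoNatZeroDivisorsOfIsAddTorsionFree instIsCharPOfIsLeftCancelAddOfCharP in
theorem of_NO_gen {r : G} (hr : r ∈ S.NO) (h : r * dd S = dd S * r) : ∃ u w s, r = gEg S u w s := by
  obtain ⟨u1, t1, p2, u2, t2, p3, u3, t3, u4, rfl⟩ := exists_nf S hr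
  rw [comm_iff, conj_nf] at h
  obtain ⟨a1, a2, a3, a4, a5, a6, a7, a8, a9⟩ := nf_inj S (mul_right_cancel h)
  have h2 := S.two
  have b4 : u4 = u1 := a9.symm
  have b3 : p3 = p2 + u1 := a6.symm
  have b8 : t3 = t1 + σ u1 := a8.symm
  subst b4 b3 b8
  have hs : σ t1 = σ (σ p2) := by
    rw [S.sq]
    (clear * - h2 a5; grobner)
  have b1 : t1 = σ p2 := σ.injective hs
  subst b1
  have b7 : u3 = p2 * σ p2 + p2 * σ u4 + u4 * σ u4 := by (clear * - h2 a4 a7; grobner)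
  have b2 : u2 = u4 * σ p2 + u4 * σ u4 := by (clear * - h2 a4 a7 b7; grobner)
  exact ⟨u4, p2, t2, by rw [gEg_eq, ← b7, ← b2]⟩

/-! ### the natural module of `LO` -/

/-- the elements of `W46` -/
def ww (u v : F) : G := S.e 2 0 u * S.e 3 0 v

theorem ww_inj {u v u' v' : F} (h : ww S u v = ww S u' v') : u = u' ∧ v = v' := by
  obtain ⟨a, h⟩ := peel S (k := 4) (by norm_num) (S.mX4 0 u) (S.mX4 0 u')
    (mem_J (S.mX6 0 v) (by norm_num) (by norm_num)) (mem_J (S.mX6 0 v') (by norm_num) (by norm_num)) h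
  exact ⟨(S.injE _ _ _ _ _ a).2, (S.injE _ _ _ _ _ h).2⟩

/-- `l` acts by a matrix -/
def Acts (l : G) (p q r s : F) : Prop := ∀ u v, l * ww S u v = ww S (p * u + q * v) (r * u + s * v) * l

variable {S}

theorem Acts.mul {l l' : G} {p q r s p' q' r' s' : F} (h : Acts S l p q r s) (h' : Acts S l' p' q' r' s') :
    Acts S (l * l') (p * p' + q * r') (p * q' + q * s') (r * p' + s * r') (r * q' + s * s') := by
  intro u v
  rw [mul_assoc, h', ← mul_assoc, h, mul_assoc]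
  congr 2 <;> ring

theorem Acts.unique {l : G} {p q r s p' q' r' s' : F} (h : Acts S l p q r s) (h' : Acts S l p' q' r' s') :
    p = p' ∧ q = q' ∧ r = r' ∧ s = s' := by
  have h1 := ww_inj S (mul_right_cancel ((h 1 0).symm.trans (h' 1 0)))
  have h2 := ww_inj S (mul_right_cancel ((h 0 1).symm.trans (h' 0 1)))
  simp only [mul_one, mul_zero, add_zero, zero_add] at h1 h2
  exact ⟨h1.1, h2.1, h1.2, h2.2⟩

variable (S)

theorem acts_o0 (t : F) : Acts S (S.o 0 t) 1 t 0 1 := by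
  intro u v
  have c2 : S.o 0 t * S.e 2 0 u = S.e 2 0 u * S.o 0 t := by
    have h : S.o 0 t * S.e 2 0 u = S.e 2 0 u * S.o 0 t * S.e 1 0 (t * 0) := S.o_e2 0 t 0 u
    rw [mul_zero, S.e_zero, mul_one] at h
    exact h
  have c2' : S.o 0 t * S.e 2 0 (t * v) = S.e 2 0 (t * v) * S.o 0 t := by
    have h : S.o 0 t * S.e 2 0 (t * v) = S.e 2 0 (t * v) * S.o 0 t * S.e 1 0 (t * 0) := S.o_e2 0 t 0 (t * v)
    rw [mul_zero, S.e_zero, mul_one] at h
    exact h
  have c3 : S.o 0 t * S.e 3 0 v = S.e 3 0 v * S.o 0 t * S.e 2 0 (t * v) := by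
    have h : S.o 0 t * S.e 3 0 v = S.e 3 0 v * S.o 0 t * S.e 1 0 (σ t * 0) * S.o 1 (t * σ 0) * S.e 2 0 (t * 0 * σ 0 + t * v) :=
      S.o_e3 0 t 0 v
    rw [h, map_zero, mul_zero, mul_zero, mul_zero, zero_add, S.o_zero, S.e_zero, mul_one, mul_one]
  have m : S.e 2 0 u * S.e 2 0 (t * v) = S.e 2 0 (u + t * v) := by rw [S.e_mul, zero_mul, add_zero, add_zero]
  rw [ww, ww, one_mul, zero_mul, zero_add, one_mul]
  calc S.o 0 t * (S.e 2 0 u * S.e 3 0 v) = S.e 2 0 u * (S.o 0 t * S.e 3 0 v) := by rw [← mul_assoc, c2, mul_assoc]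
    _ = S.e 2 0 u * S.e 3 0 v * (S.o 0 t * S.e 2 0 (t * v)) := by rw [c3]; simp only [mul_assoc]
    _ = S.e 2 0 u * (S.e 3 0 v * S.e 2 0 (t * v)) * S.o 0 t := by rw [c2']; simp only [mul_assoc]
    _ = S.e 2 0 (u + t * v) * S.e 3 0 v * S.o 0 t := by rw [A3A20, ← m]; simp only [mul_assoc]

theorem acts_o4 (t : F) : Acts S (S.o 4 t) 1 0 t 1 := by
  intro u v
  have c3 : ∀ v, S.o 4 t * S.e 3 0 v = S.e 3 0 v * S.o 4 t := by
    intro v
    have h : S.e 3 0 v * S.o 4 t = S.o 4 t * S.e 3 0 v * S.e 4 0 (0 * t) := S.e_o1 3 0 v t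
    rw [zero_mul, S.e_zero, mul_one] at h
    exact h.symm
  have c2 : S.o 4 t * S.e 2 0 u = S.e 2 0 u * S.e 3 0 (t * u) * S.o 4 t := by
    have h : S.e 2 0 u * S.o 4 t = S.o 4 t * S.e 2 0 u * S.e 3 0 (0 * σ 0 * t + u * t) * S.o 3 (σ 0 * t) * S.e 4 0 (0 * σ t) :=
      S.e_o2 2 0 u t
    rw [map_zero, zero_mul, zero_mul, zero_mul, zero_add, S.o_zero, S.e_zero, mul_one, mul_one] at h
    have h3 := swap h (e0_sq S 3 _) (c3 _)
    rw [h3, mul_comm u t, mul_assoc]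
  have m : S.e 3 0 (t * u) * S.e 3 0 v = S.e 3 0 (t * u + v) := by rw [S.e_mul, zero_mul, add_zero, add_zero]
  rw [ww, ww, one_mul, zero_mul, add_zero, one_mul]
  calc S.o 4 t * (S.e 2 0 u * S.e 3 0 v) = S.e 2 0 u * S.e 3 0 (t * u) * (S.o 4 t * S.e 3 0 v) := by
        rw [← mul_assoc, c2]; simp only [mul_assoc]
    _ = S.e 2 0 u * (S.e 3 0 (t * u) * S.e 3 0 v) * S.o 4 t := by rw [c3]; simp only [mul_assoc]
    _ = S.e 2 0 u * S.e 3 0 (t * u + v) * S.o 4 t := by rw [m]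

theorem acts_dd : Acts S (dd S) 1 1 1 0 := by
  have h := (acts_o4 S 1).mul (acts_o0 S 1)
  have h2 : (1 : F) + 1 = 0 := S.add_self 1
  simpa [h2, dd] using h

theorem acts_h (c : Fˣ) : Acts S (S.h c c) c 0 0 (c⁻¹ : Fˣ) := by
  intro u v
  have hc : (c : F) ≠ 0 := c.ne_zero
  have hs : σ (c : F) ≠ 0 := (map_ne_zero σ).2 hc
  have h1 : S.h c c * S.e 2 0 u * (S.h c c)⁻¹ = S.e 2 0 (c * u) := by
    rw [S.h_e, mul_zero]
    congr 1
    rw [chE_two]
    simp only [Units.val_div_eq_div_val, Units.coe_map, MonoidHom.coe_coe, map_div₀, S.sq]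
    field_simp
  have h2 : S.h c c * S.e 3 0 v * (S.h c c)⁻¹ = S.e 3 0 ((c⁻¹ : Fˣ) * v) := by
    rw [S.h_e, mul_zero]
    congr 1
    rw [chE_three]
    simp only [Units.val_div_eq_div_val, Units.coe_map, MonoidHom.coe_coe, map_div₀, S.sq, Units.val_inv_eq_inv_val]
    field_simp
  rw [ww, ww, zero_mul, zero_mul, add_zero, zero_add, ← h1, ← h2]
  group

/-- the rank one relation -/
theorem n1_h_eq [Finite F] (c : Fˣ) : S.n1 * S.h c c = S.o 0 (c⁻¹ : Fˣ) * S.o 4 c * S.o 0 (c⁻¹ : Fˣ) := by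
  obtain ⟨d, hd⟩ := H42.Deg.F4.exists_sq S c⁻¹
  have h := H42.Deg.F4.key_rel S d
  rw [hd, inv_inv] at h
  rw [h]
  calc S.n1 * S.h c c = (S.o 0 (c⁻¹ : Fˣ) * S.o 0 (c⁻¹ : Fˣ)) * S.n1 * S.h c c * (S.o 0 (c⁻¹ : Fˣ) * S.o 0 (c⁻¹ : Fˣ)) := by
        rw [o_sq, one_mul, mul_one]
    _ = _ := by simp only [mul_assoc]

/-- the elements of `LO` -/
theorem LO_form [Finite F] {l : G} (hl : l ∈ S.LO) : (∃ a, ∃ c : Fˣ, l = S.o 0 a * S.h c c) ∨
    ∃ a r d, r ≠ 0 ∧ l = S.o 0 a * S.o 4 r * S.o 0 d := by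
  rcases H42.Deg.F4.LO_bruhat S hl with hb | ⟨x, hx, b, hb, rfl⟩
  · left
    obtain ⟨x, hx, t, ⟨c, rfl⟩, rfl⟩ := H42.Deg.F4.BM_form S hb
    obtain ⟨a, rfl⟩ := S.X1 hx
    exact ⟨a, c, rfl⟩
  · right
    obtain ⟨y, hy, t, ⟨c, rfl⟩, rfl⟩ := H42.Deg.F4.BM_form S hb
    obtain ⟨a, rfl⟩ := S.X1 hx
    obtain ⟨z, hz⟩ := S.X1 ((S.T_conj' (t := S.h c c) (S.mem_T.2 ⟨c, c, rfl⟩) 1 hy))
    refine ⟨a + (c⁻¹ : Fˣ), c, (c⁻¹ : Fˣ) + z, c.ne_zero, ?_⟩
    have e1 : y * S.h c c = S.h c c * S.o 0 z := by rw [hz]; group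
    rw [e1, ← S.o_add, ← S.o_add]
    calc S.o 0 a * S.n1 * (S.h c c * S.o 0 z) = S.o 0 a * (S.n1 * S.h c c) * S.o 0 z := by group
      _ = _ := by rw [n1_h_eq]; simp only [mul_assoc]

attribute [-instance] instNoNatZeroDivisorsOfIsAddTorsionFree instIsCharPOfIsLeftCancelAddOfCharP in
/-- **D3** -/
theorem of_LO [Finite F] {l : G} (hl : l ∈ S.LO) (h : l * dd S = dd S * l) :
    l = 1 ∨ ∃ a : F, a ^ 2 + a + 1 ≠ 0 ∧ l = S.o 0 a * S.o 4 (a ^ 2 + a + 1)⁻¹ * S.o 0 (a + 1) := by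
  have h2 := S.two
  rcases LO_form S hl with ⟨a, c, rfl⟩ | ⟨a, r, d, hr, rfl⟩
  · left
    have h1 := (acts_o0 S a).mul (acts_h S c)
    have h3 := h1.mul (acts_dd S)
    have h4 := (acts_dd S).mul h1
    rw [h] at h3
    obtain ⟨k1, k2, k3, k4⟩ := h3.unique h4
    have hc : (c : F) ≠ 0 := c.ne_zero
    have hci : (c : F) * ((c⁻¹ : Fˣ) : F) = 1 := by rw [← Units.val_mul, mul_inv_cancel, Units.val_one]
    have ha : a = 0 := by
      have : a * ((c⁻¹ : Fˣ) : F) = 0 := by (clear * - h2 k1 k2 hc; grobner)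
      rcases mul_eq_zero.1 this with h | h
      · exact h
      · exact absurd h (Units.ne_zero _)
    subst ha
    have hc1 : c = 1 := by
      apply Units.ext
      rw [Units.val_one]
      have h5 : ((c : F) - 1) * ((c : F) - 1) = 0 := by (clear * - h2 hci k2; grobner)
      rcases mul_eq_zero.1 h5 with h | h <;> exact sub_eq_zero.1 h
    rw [hc1, S.h_one, S.o_zero, one_mul]
  · right
    have h1 := ((acts_o0 S a).mul (acts_o4 S r)).mul (acts_o0 S d)
    have h3 := h1.mul (acts_dd S)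
    have h4 := (acts_dd S).mul h1
    rw [h] at h3
    obtain ⟨k1, k2, k3, k4⟩ := h3.unique h4
    have hd : d = a + 1 := by
      have : r * (d - (a + 1)) = 0 := by (clear * - h2 k1 k2; grobner)
      rcases mul_eq_zero.1 this with h | h
      · exact absurd h hr
      · exact sub_eq_zero.1 h
    subst hd
    have hk : r * (a ^ 2 + a + 1) = 1 := by (clear * - h2 hr k1; grobner)
    have hne : a ^ 2 + a + 1 ≠ 0 := by
      intro h0
      rw [h0, mul_zero] at hk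
      exact zero_ne_one hk
    exact ⟨a, hne, by rw [eq_inv_of_mul_eq_one_left hk]⟩

/-- **D4**, general field -/
theorem of_HO_gen [Finite F] [Finite G] (hF : ∃ c : Fˣ, c ≠ 1) {g : G} (hg : g ∈ S.HO) (h : g * dd S = dd S * g) :
    ∃ u w s, g = gEg S u w s ∨ ∃ a : F, a ^ 2 + a + 1 ≠ 0 ∧
      g = gEg S u w s * (S.o 0 a * S.o 4 (a ^ 2 + a + 1)⁻¹ * S.o 0 (a + 1)) := by
  obtain ⟨l, hl, n, hn, rfl⟩ := mem_sup_of_norm (A := S.LO) (B := S.NO) (fun l hl n hn =>
    H991.TwFAb.NO_norm S (Subgroup.mem_sup_left hl) hn) hg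
  set r := l * n * l⁻¹ with hr
  have hrN : r ∈ S.NO := H991.TwFAb.NO_norm S (Subgroup.mem_sup_left hl) hn
  have e : l * n = r * l := by rw [hr]; group
  rw [e] at h ⊢
  have hdH : dd S ∈ S.HO := Subgroup.mem_sup_left (dd_LO S)
  have h1 : (dd S * r * (dd S)⁻¹)⁻¹ * r = dd S * l * (dd S)⁻¹ * l⁻¹ := by
    have h2 : r * (l * dd S) = (dd S * r * (dd S)⁻¹) * (dd S * l) := by
      rw [← mul_assoc, h]; group
    calc (dd S * r * (dd S)⁻¹)⁻¹ * r = (dd S * r * (dd S)⁻¹)⁻¹ * (r * (l * dd S)) * (l * dd S)⁻¹ := by group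
      _ = _ := by rw [h2]; group
  have h2 : (dd S * r * (dd S)⁻¹)⁻¹ * r = 1 := H991.TwFAb.LO_inf_NO S hF
    (by rw [h1]; exact mul_mem (mul_mem (mul_mem (dd_LO S) hl) (inv_mem (dd_LO S))) (inv_mem hl))
    (mul_mem (inv_mem (H991.TwFAb.NO_norm S hdH hrN)) hrN)
  have h3 : r * dd S = dd S * r := by
    have h4 := inv_mul_eq_one.1 h2
    calc r * dd S = (dd S * r * (dd S)⁻¹) * dd S := by rw [h4]
      _ = dd S * r := by group
  have h4 : l * dd S = dd S * l := by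
    rw [h2] at h1
    calc l * dd S = (1 : G) * (l * dd S) := (one_mul _).symm
      _ = dd S * l := by rw [h1]; group
  obtain ⟨u, w, s, hu⟩ := of_NO_gen S hrN h3
  refine ⟨u, w, s, ?_⟩
  rcases of_LO S hl h4 with h5 | ⟨a, ha, h5⟩
  · left
    rw [h5, mul_one, hu]
  · right
    exact ⟨a, ha, by rw [hu, h5]⟩

/-! ### the statements for `F = GF(8)` -/

include S in
/-- over `GF(8)` the map `σ` is the inverse of the squaring map -/
theorem sig_sq_of_card (h8 : Nat.card F = 8) (x : F) : σ (x ^ 2) = x := by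
  have hfin : Finite F := Nat.finite_of_card_ne_zero (by omega)
  have : Fintype F := Fintype.ofFinite F
  have hb : Function.Bijective σ := Finite.injective_iff_bijective.1 σ.injective
  let τ : F ≃+* F := RingEquiv.ofBijective σ hb
  have hτ : ∀ x, τ x = σ x := fun _ => rfl
  have : Fact (Nat.Prime 2) := ⟨Nat.prime_two⟩
  have h3 : Nat.card (F ≃+* F) = 3 := Lib.FieldAutCard.card_ringAut (p := 2) (f := 3) (by norm_num)
    (by rw [← Nat.card_eq_fintype_card, h8]; norm_num)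
  have h4 : τ ^ 3 = 1 := by
    rw [← h3]
    exact pow_card_eq_one'
  have h5 : τ (τ (τ x)) = x := by
    have := congrArg (fun f : F ≃+* F => f x) h4
    simpa [pow_succ] using this
  rw [hτ, hτ, hτ, S.sq x] at h5
  exact h5

/-- the elements of `NO` commuting with `dd`, in the coordinates for `GF(8)` -/
def gE (u t s : F) : G :=
  S.e 1 0 u * S.o 1 t * S.e 2 (t ^ 2) (u * t + u * σ u) * S.o 2 s * S.e 3 (t ^ 2 + u) (t ^ 3 + σ u * t ^ 2 + u * σ u) *
    S.o 3 (t + σ u) * S.e 4 0 u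

variable (hσ : ∀ x : F, σ (x ^ 2) = x)

include hσ

theorem gE_eq (u t s : F) : gE S u t s = gEg S u (t ^ 2) s := by
  rw [gE, gEg, hσ]
  congr 5
  ring

theorem gEg_eq_gE (u w s : F) : gEg S u w s = gE S u (σ w) s := by
  have h : (σ w) ^ 2 = w := by rw [← map_pow, hσ]
  rw [gE_eq S hσ, h]

/-- **D4** -/
theorem of_HO [Finite F] [Finite G] (hF : ∃ c : Fˣ, c ≠ 1) {g : G} (hg : g ∈ S.HO) (h : g * dd S = dd S * g) :
    ∃ u t s, g = gE S u t s ∨ ∃ a : F, a ^ 2 + a + 1 ≠ 0 ∧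
      g = gE S u t s * (S.o 0 a * S.o 4 (a ^ 2 + a + 1)⁻¹ * S.o 0 (a + 1)) := by
  obtain ⟨u, w, s, e⟩ := of_HO_gen S hF hg h
  rw [gEg_eq_gE S hσ] at e
  exact ⟨u, σ w, s, e⟩

end Cfsg.Agent.H519.TwFE
end

-- part: H47/CentThirteen
section
/-!
# The centralizer of an element of order 13 (helper47, S5936, tasks E and F)
-/

set_option autoImplicit false

namespace Cfsg.Agent.H47.TFour

open Subgroup

section

variable {G : Type*} [Group G]

/-- the elements `y1 ^ i y2 ^ j` -/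
theorem inj_two {y1 y2 : G} (_hy : y1 * y2 = y2 * y1) (o1 : orderOf y1 = 13) (o2 : orderOf y2 = 13)
    (hn : y2 ∉ Subgroup.zpowers y1) {i j i' j' : ℕ} (hi : i < 13) (hj : j < 13) (hi' : i' < 13) (hj' : j' < 13)
    (h : y1 ^ i * y2 ^ j = y1 ^ i' * y2 ^ j') : i = i' ∧ j = j' := by
  have key : ∀ {i j i' j' : ℕ}, j < 13 → j' < 13 → j' ≤ j → y1 ^ i * y2 ^ j = y1 ^ i' * y2 ^ j' → j = j' := by
    intro i j i' j' hj hj' hle h
    by_contra hne
    apply hn
    -- `y2 ^ (j - j') ∈ ⟨y1⟩`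
    have h1 : y2 ^ (j - j') = (y1 ^ i)⁻¹ * y1 ^ i' := by
      have h2 : y2 ^ j = y2 ^ (j - j') * y2 ^ j' := by rw [← pow_add]; congr 1; omega
      rw [h2, ← mul_assoc] at h
      have h3 := mul_right_cancel h
      rw [← h3]; group
    have h2 : y2 ^ (j - j') ∈ zpowers y1 := by
      rw [h1]
      exact mul_mem (inv_mem (pow_mem (mem_zpowers _) _)) (pow_mem (mem_zpowers _) _)
    have h3 : Nat.Coprime (j - j') 13 :=
      ((Nat.Prime.coprime_iff_not_dvd (by norm_num)).2 fun hd => by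
        have := Nat.le_of_dvd (by omega) hd
        omega).symm
    obtain ⟨m, -, hm⟩ := Nat.exists_mul_mod_eq_one_of_coprime h3 (by norm_num)
    have h4 : y2 = (y2 ^ (j - j')) ^ m := by
      rw [← pow_mul]
      conv_lhs => rw [← pow_one y2]
      rw [pow_eq_pow_iff_modEq, o2]
      exact hm.symm
    rw [h4]
    exact pow_mem h2 m
  have hjj : j = j' := by
    rcases le_total j' j with h1 | h1
    · exact key hj hj' h1 h
    · exact (key hj' hj h1 h.symm).symm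
  subst hjj
  have h1 := mul_right_cancel h
  rw [pow_eq_pow_iff_modEq, o1, Nat.ModEq, Nat.mod_eq_of_lt hi, Nat.mod_eq_of_lt hi'] at h1
  exact ⟨h1, rfl⟩

/-! ### F2 -/

theorem card_pairs : ((Finset.univ : Finset (Fin 13 × Fin 13)).filter fun p =>
    ¬ 13 ∣ (p.1 : ℕ) ∧ ¬ 13 ∣ (p.2 : ℕ) ∧ ¬ ((p.1 : ℕ) ^ 4 ≡ (p.2 : ℕ) ^ 4 [MOD 13])).card = 96 := by
  decide +kernel

theorem card_dvd [Finite G] {x y1 y2 : G} (hy : y1 * y2 = y2 * y1) (o1 : orderOf y1 = 13)
    (o2 : orderOf y2 = 13) (hn : y2 ∉ Subgroup.zpowers y1) (hC : ∀ c : G, c * x = x * c ↔ ∃ i j : ℕ, c = y1 ^ i * y2 ^ j)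
    (hg : ∀ i j : ℕ, IsConj x (y1 ^ i * y2 ^ j) ↔ (¬ 13 ∣ i ∧ ¬ 13 ∣ j ∧ ¬ (i ^ 4 ≡ j ^ 4 [MOD 13]))) :
    Nat.card (Subgroup.normalizer (Subgroup.centralizer ({x} : Set G) : Set G)) ∣ 13 ^ 2 * 96 := by
  classical
  set P := Subgroup.centralizer ({x} : Set G) with hP
  have hPm : ∀ c : G, c ∈ P ↔ ∃ i j : ℕ, c = y1 ^ i * y2 ^ j := by
    intro c
    rw [hP, mem_centralizer_singleton_iff]
    exact hC c
  have p1 : y1 ^ 13 = 1 := by rw [← o1, pow_orderOf_eq_one]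
  have p2 : y2 ^ 13 = 1 := by rw [← o2, pow_orderOf_eq_one]
  have hred : ∀ (a : G) (_ : a ^ 13 = 1) (i : ℕ), a ^ i = a ^ (i % 13) := by
    intro a ha i
    conv_lhs => rw [← Nat.div_add_mod i 13]
    rw [pow_add, pow_mul, ha, one_pow, one_mul]
  -- the parametrization
  have hbij : Function.Bijective (fun p : Fin 13 × Fin 13 =>
      (⟨y1 ^ (p.1 : ℕ) * y2 ^ (p.2 : ℕ), (hPm _).2 ⟨_, _, rfl⟩⟩ : P)) := by
    constructor
    · intro p q hpq
      obtain ⟨h1, h2⟩ := inj_two hy o1 o2 hn p.1.2 p.2.2 q.1.2 q.2.2 (congrArg Subtype.val hpq)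
      exact Prod.ext (Fin.ext h1) (Fin.ext h2)
    · rintro ⟨c, hc⟩
      obtain ⟨i, j, rfl⟩ := (hPm c).1 hc
      refine ⟨(⟨i % 13, Nat.mod_lt _ (by norm_num)⟩, ⟨j % 13, Nat.mod_lt _ (by norm_num)⟩), Subtype.ext ?_⟩
      show y1 ^ (i % 13) * y2 ^ (j % 13) = _
      rw [← hred y1 p1, ← hred y2 p2]
  have hPc : Nat.card P = 169 := by
    rw [← Nat.card_congr (Equiv.ofBijective _ hbij), Nat.card_prod, Nat.card_eq_fintype_card, Fintype.card_fin]
  -- `P` is abelian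
  have hPab : ∀ a ∈ P, ∀ b ∈ P, a * b = b * a := by
    intro a ha b hb
    obtain ⟨i, j, rfl⟩ := (hPm a).1 ha
    obtain ⟨i', j', rfl⟩ := (hPm b).1 hb
    have hc : Commute y1 y2 := hy
    have c1 : Commute (y1 ^ i) (y1 ^ i' * y2 ^ j') :=
      ((Commute.refl y1).pow_pow i i').mul_right (hc.pow_pow i j')
    have c2 : Commute (y2 ^ j) (y1 ^ i' * y2 ^ j') :=
      (hc.symm.pow_pow j i').mul_right ((Commute.refl y2).pow_pow j j')
    exact (c1.mul_left c2).eq
  -- the set of conjugates of `x` in `P`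
  let N := Subgroup.normalizer (P : Set G)
  have hPN : P ≤ N := le_normalizer
  let Ω := {c : G // c ∈ P ∧ IsConj x c}
  have hΩ : Nat.card Ω = 96 := by
    have h1 : Nat.card {p : Fin 13 × Fin 13 // ¬ 13 ∣ (p.1 : ℕ) ∧ ¬ 13 ∣ (p.2 : ℕ) ∧
        ¬ ((p.1 : ℕ) ^ 4 ≡ (p.2 : ℕ) ^ 4 [MOD 13])} = 96 := by
      rw [Nat.card_eq_fintype_card, Fintype.card_subtype]
      exact card_pairs
    rw [← h1]
    symm
    refine Nat.card_congr (Equiv.ofBijective (fun p => ⟨y1 ^ (p.1.1 : ℕ) * y2 ^ (p.1.2 : ℕ),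
      (hPm _).2 ⟨_, _, rfl⟩, (hg _ _).2 p.2⟩) ⟨?_, ?_⟩)
    · intro p q hpq
      have h2 : y1 ^ (p.1.1 : ℕ) * y2 ^ (p.1.2 : ℕ) = y1 ^ (q.1.1 : ℕ) * y2 ^ (q.1.2 : ℕ) := congrArg Subtype.val hpq
      obtain ⟨h3, h4⟩ := inj_two hy o1 o2 hn p.1.1.2 p.1.2.2 q.1.1.2 q.1.2.2 h2
      exact Subtype.ext (Prod.ext (Fin.ext h3) (Fin.ext h4))
    · rintro ⟨c, hc, hcx⟩
      obtain ⟨q, hq⟩ := hbij.2 ⟨c, hc⟩
      have hq' : y1 ^ (q.1 : ℕ) * y2 ^ (q.2 : ℕ) = c := congrArg Subtype.val hq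
      refine ⟨⟨q, (hg _ _).1 (by rw [hq']; exact hcx)⟩, Subtype.ext hq'⟩
  have hmem : ∀ (g : N) (c : G), c ∈ P ∧ IsConj x c → (g : G) * c * (g : G)⁻¹ ∈ P ∧ IsConj x ((g : G) * c * (g : G)⁻¹) :=
    fun g c hc => ⟨(mem_normalizer_iff.1 g.2 c).1 hc.1, hc.2.trans (isConj_iff.2 ⟨g, rfl⟩)⟩
  let act : MulAction N Ω :=
    { smul := fun g ω => ⟨(g : G) * ω.1 * (g : G)⁻¹, hmem g ω.1 ω.2⟩
      one_smul := fun ω => Subtype.ext (by
        show ((1 : N) : G) * ω.1 * ((1 : N) : G)⁻¹ = ω.1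
        simp)
      mul_smul := fun g h ω => Subtype.ext (by
        show ((g * h : N) : G) * ω.1 * ((g * h : N) : G)⁻¹ = (g : G) * ((h : G) * ω.1 * (h : G)⁻¹) * (g : G)⁻¹
        rw [coe_mul]; group) }
  have hstab : ∀ ω : Ω, MulAction.stabilizer N ω = P.subgroupOf N := by
    intro ω
    obtain ⟨c, hc, hcx⟩ := ω
    have hle : P ≤ centralizer ({c} : Set G) := fun a ha =>
      mem_centralizer_singleton_iff.2 (hPab a ha c hc)
    have hcard : Nat.card (centralizer ({c} : Set G)) = 169 := by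
      obtain ⟨h, hh⟩ := isConj_iff.1 hcx
      rw [← hPc, hP]
      symm
      refine Nat.card_congr ⟨fun a => ⟨h * a * h⁻¹, ?_⟩, fun a => ⟨h⁻¹ * a * h, ?_⟩, ?_, ?_⟩
      · have := mem_centralizer_singleton_iff.1 a.2
        rw [mem_centralizer_singleton_iff, ← hh]
        calc h * a * h⁻¹ * (h * x * h⁻¹) = h * (a * x) * h⁻¹ := by group
          _ = h * (x * a) * h⁻¹ := by rw [this]
          _ = _ := by group
      · have h5 : (a : G) * (h * x * h⁻¹) = (h * x * h⁻¹) * a := by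
          have := mem_centralizer_singleton_iff.1 a.2
          rw [hh]
          exact this
        rw [mem_centralizer_singleton_iff]
        calc h⁻¹ * a * h * x = h⁻¹ * (a * (h * x * h⁻¹)) * h := by group
          _ = h⁻¹ * ((h * x * h⁻¹) * a) * h := by rw [h5]
          _ = _ := by group
      · intro a
        exact Subtype.ext (by show h⁻¹ * (h * a * h⁻¹) * h = a; group)
      · intro a
        exact Subtype.ext (by show h * (h⁻¹ * a * h) * h⁻¹ = a; group)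
    have heq : P = centralizer ({c} : Set G) := Subgroup.eq_of_le_of_card_ge hle (by rw [hcard, hPc])
    ext g
    rw [MulAction.mem_stabilizer_iff, mem_subgroupOf]
    constructor
    · intro h
      have h1 : (g : G) * c * (g : G)⁻¹ = c := congrArg Subtype.val h
      rw [heq, mem_centralizer_singleton_iff]
      exact mul_inv_eq_iff_eq_mul.1 h1
    · intro h
      rw [heq, mem_centralizer_singleton_iff] at h
      exact Subtype.ext (by
        show (g : G) * c * (g : G)⁻¹ = c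
        rw [h]; group)
  have horb : ∀ ω : Ω, Nat.card (MulAction.orbit N ω) = (P.subgroupOf N).index := by
    intro ω
    rw [← hstab ω]
    exact (MulAction.index_stabilizer N ω).symm
  have hfin : Finite (Quotient (MulAction.orbitRel N Ω)) := inferInstance
  have := Fintype.ofFinite (Quotient (MulAction.orbitRel N Ω))
  have h96 : Nat.card (Quotient (MulAction.orbitRel N Ω)) * (P.subgroupOf N).index = 96 := by
    rw [← hΩ, Nat.card_congr (MulAction.selfEquivSigmaOrbits N Ω), Nat.card_sigma,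
      Finset.sum_congr rfl (fun ω _ => horb _), Finset.sum_const, smul_eq_mul, Nat.card_eq_fintype_card,
      Finset.card_univ]
  have hN := (P.subgroupOf N).card_mul_index
  rw [Nat.card_congr (Subgroup.subgroupOfEquivOfLe hPN).toEquiv, hPc] at hN
  rw [← hN, ← h96]
  exact Nat.mul_dvd_mul (by norm_num) (dvd_mul_left _ _)

/-! ### E -/

/-- a fixed-point-free involutory automorphism of a subgroup of odd order -/
theorem inv_of_fpf [Finite G] {v : G} (hv : v * v = 1) (C : Subgroup G) (hn : ∀ c ∈ C, v * c * v⁻¹ ∈ C)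
    (_ : Odd (Nat.card C)) (hfix : ∀ c ∈ C, c * v = v * c → c = 1) :
    (∀ c ∈ C, v * c * v⁻¹ = c⁻¹) ∧ ∀ a ∈ C, ∀ b ∈ C, a * b = b * a := by
  let φ : C →* C := MonoidHom.mk' (fun k => ⟨v * k * v⁻¹, hn k k.2⟩) (fun a b => Subtype.ext (by
    show v * ((a : G) * b) * v⁻¹ = v * a * v⁻¹ * (v * b * v⁻¹)
    group))
  have hφ : ∀ k : C, ((φ k : C) : G) = v * k * v⁻¹ := fun _ => rfl
  have hvi : v⁻¹ = v := inv_eq_of_mul_eq_one_left hv
  have h1 : MonoidHom.FixedPointFree φ := by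
    intro k hk
    have h2 : v * (k : G) * v⁻¹ = k := congrArg Subtype.val hk
    exact Subtype.ext (hfix k k.2 (mul_inv_eq_iff_eq_mul.1 h2).symm)
  have h2 : Function.Involutive φ := by
    intro k
    apply Subtype.ext
    rw [hφ, hφ, hvi]
    calc v * (v * (k : G) * v) * v = (v * v) * k * (v * v) := by group
      _ = k := by rw [hv]; group
  constructor
  · intro c hc
    have h3 := congrFun (h1.coe_eq_inv_of_involutive h2) ⟨c, hc⟩
    exact congrArg Subtype.val h3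
  · intro a ha b hb
    have h3 := h1.commute_all_of_involutive h2 ⟨a, ha⟩ ⟨b, hb⟩
    exact congrArg Subtype.val h3

theorem cent [Finite G] {x v y1 y2 T1 T2 : G} {b : ℕ} (h13 : ¬ 13 ^ 3 ∣ Nat.card G)
    (hodd : Odd (Nat.card (Subgroup.centralizer ({x} : Set G)))) (hv : v * v = 1) (hvx : v * x * v⁻¹ = x⁻¹)
    (hfix : ∀ c : G, c * x = x * c → c * v = v * c → c = 1)
    (hy : y1 * y2 = y2 * y1) (o1 : orderOf y1 = 13) (o2 : orderOf y2 = 13) (hn : y2 ∉ Subgroup.zpowers y1)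
    (hx : x = y1 * y2 ^ b)
    (hT1 : T1 * y1 * T1⁻¹ = y1⁻¹) (hT1' : T1 * y2 = y2 * T1) (hT2 : T2 * y2 * T2⁻¹ = y2⁻¹) (hT2' : T2 * y1 = y1 * T2)
    (hc1 : ∀ c : G, c * T1 = T1 * c → c * y2 = y2 * c → (orderOf c).Prime → orderOf c = 2 ∨ orderOf c = 13)
    (hc2 : ∀ c : G, c * T2 = T2 * c → c * y1 = y1 * c → (orderOf c).Prime → orderOf c = 2 ∨ orderOf c = 13)
    (hT12 : T1 * T1 = 1) (hT22 : T2 * T2 = 1) :
    Nat.card (Subgroup.centralizer ({x} : Set G)) = 13 ^ 2 ∧ (∀ c : G, c * x = x * c → v * c * v⁻¹ = c⁻¹) ∧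
      (∀ c : G, c * x = x * c → ∃ i j : ℕ, c = y1 ^ i * y2 ^ j) := by
  classical
  set C := Subgroup.centralizer ({x} : Set G) with hC
  have hCm : ∀ c : G, c ∈ C ↔ c * x = x * c := fun c => mem_centralizer_singleton_iff
  obtain ⟨hinv, hab⟩ := inv_of_fpf hv C (fun c hc => by
    rw [hCm] at hc ⊢
    have h1 : v * x⁻¹ * v⁻¹ = x := by
      have h2 : (v * x * v⁻¹)⁻¹ = x := by rw [hvx, inv_inv]
      conv_rhs => rw [← h2]
      group
    have h3 : c * x⁻¹ = x⁻¹ * c := (Commute.inv_right (show Commute c x from hc)).eq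
    calc v * c * v⁻¹ * x = v * c * v⁻¹ * (v * x⁻¹ * v⁻¹) := by rw [h1]
      _ = v * (c * x⁻¹) * v⁻¹ := by group
      _ = v * (x⁻¹ * c) * v⁻¹ := by rw [h3]
      _ = (v * x⁻¹ * v⁻¹) * (v * c * v⁻¹) := by group
      _ = x * (v * c * v⁻¹) := by rw [h1]) hodd (fun c hc hcv => hfix c ((hCm c).1 hc) hcv)
  have hcy : Commute y1 y2 := hy
  have hy1C : y1 ∈ C := by
    rw [hCm, hx]
    exact ((Commute.refl y1).mul_right (hcy.pow_right b)).eq
  have hy2C : y2 ∈ C := by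
    rw [hCm, hx]
    exact (hcy.symm.mul_right ((Commute.refl y2).pow_right b)).eq
  have hxC : x ∈ C := (hCm x).2 rfl
  have hCiff : ∀ c : G, c ∈ C ↔ c * y1 = y1 * c ∧ c * y2 = y2 * c := by
    intro c
    constructor
    · intro hc
      exact ⟨hab c hc y1 hy1C, hab c hc y2 hy2C⟩
    · rintro ⟨h1, h2⟩
      rw [hCm, hx]
      exact ((show Commute c y1 from h1).mul_right ((show Commute c y2 from h2).pow_right b)).eq
  -- `T` inverting `y`, `c` commuting with `y`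
  have hcj : ∀ {T y c : G}, T * T = 1 → T * y * T⁻¹ = y⁻¹ → c * y = y * c → (T * c * T⁻¹) * y = y * (T * c * T⁻¹) := by
    intro T y c hTT hTy hc
    have h1 : T * y⁻¹ * T⁻¹ = y := by
      have h2 : (T * y * T⁻¹)⁻¹ = y := by rw [hTy, inv_inv]
      conv_rhs => rw [← h2]
      group
    have h3 : c * y⁻¹ = y⁻¹ * c := (Commute.inv_right (show Commute c y from hc)).eq
    calc (T * c * T⁻¹) * y = (T * c * T⁻¹) * (T * y⁻¹ * T⁻¹) := by rw [h1]
      _ = T * (c * y⁻¹) * T⁻¹ := by group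
      _ = T * (y⁻¹ * c) * T⁻¹ := by rw [h3]
      _ = (T * y⁻¹ * T⁻¹) * (T * c * T⁻¹) := by group
      _ = y * (T * c * T⁻¹) := by rw [h1]
  have hcc : ∀ {T y c : G}, T * y = y * T → c * y = y * c → (T * c * T⁻¹) * y = y * (T * c * T⁻¹) := by
    intro T y c hT hc
    have h1 : Commute T y := hT
    have h2 : Commute c y := hc
    exact ((h1.mul_left h2).mul_left h1.inv_left).eq
  have hT1C : ∀ c ∈ C, T1 * c * T1⁻¹ ∈ C := by
    intro c hc
    obtain ⟨h1, h2⟩ := (hCiff c).1 hc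
    exact (hCiff _).2 ⟨hcj hT12 hT1 h1, hcc hT1' h2⟩
  have hT2C : ∀ c ∈ C, T2 * c * T2⁻¹ ∈ C := by
    intro c hc
    obtain ⟨h1, h2⟩ := (hCiff c).1 hc
    exact (hCiff _).2 ⟨hcc hT2' h1, hcj hT22 hT2 h2⟩
  -- `T1 T2` inverts `x`
  have hTx : (T1 * T2) * x * (T1 * T2)⁻¹ = x⁻¹ := by
    have h1 : T2 * x * T2⁻¹ = y1 * (y2 ^ b)⁻¹ := by
      rw [hx]
      have h2 : T2 * (y1 * y2 ^ b) * T2⁻¹ = (T2 * y1 * T2⁻¹) * (T2 * y2 * T2⁻¹) ^ b := by
        rw [conj_pow]; group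
      rw [h2, hT2, hT2', inv_pow]
      group
    have h3 : T1 * (T2 * x * T2⁻¹) * T1⁻¹ = y1⁻¹ * (y2 ^ b)⁻¹ := by
      rw [h1]
      have h2 : T1 * (y1 * (y2 ^ b)⁻¹) * T1⁻¹ = (T1 * y1 * T1⁻¹) * (T1 * (y2 ^ b)⁻¹ * T1⁻¹) := by group
      have h4 : T1 * (y2 ^ b)⁻¹ = (y2 ^ b)⁻¹ * T1 :=
        ((show Commute T1 y2 from hT1').pow_right b).inv_right.eq
      rw [h2, hT1, h4]
      group
    have h5 : (T1 * T2) * x * (T1 * T2)⁻¹ = T1 * (T2 * x * T2⁻¹) * T1⁻¹ := by group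
    rw [h5, h3, hx, mul_inv_rev]
    exact ((hcy.inv_inv).pow_right b |>.eq |> fun h => by
      rw [inv_pow] at h
      exact h)
  have hTv : T1 * T2 * v ∈ C := by
    rw [hCm]
    have h1 : (T1 * T2) * x⁻¹ * (T1 * T2)⁻¹ = x := by
      have h2 : ((T1 * T2) * x * (T1 * T2)⁻¹)⁻¹ = x := by rw [hTx, inv_inv]
      conv_rhs => rw [← h2]
      group
    have h3 : v * x = x⁻¹ * v := mul_inv_eq_iff_eq_mul.1 hvx
    calc T1 * T2 * v * x = T1 * T2 * (v * x) := by group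
      _ = T1 * T2 * (x⁻¹ * v) := by rw [h3]
      _ = ((T1 * T2) * x⁻¹ * (T1 * T2)⁻¹) * (T1 * T2 * v) := by group
      _ = x * (T1 * T2 * v) := by rw [h1]
  -- only the prime 13
  have hprime : ∀ r : ℕ, r.Prime → r ∣ Nat.card C → r = 13 := by
    intro r hr hd
    by_contra hne
    have hrf : Fact r.Prime := ⟨hr⟩
    have hr2 : r ≠ 2 := by
      rintro rfl
      exact (Nat.not_even_iff_odd.2 hodd) (even_iff_two_dvd.2 hd)
    let R : Subgroup G :=
      { carrier := {c | c ∈ C ∧ c ^ r = 1}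
        one_mem' := ⟨one_mem _, one_pow r⟩
        mul_mem' := by
          rintro a b ⟨ha, ha'⟩ ⟨hb, hb'⟩
          refine ⟨mul_mem ha hb, ?_⟩
          rw [(show Commute a b from hab a ha b hb).mul_pow, ha', hb', one_mul]
        inv_mem' := by
          rintro a ⟨ha, ha'⟩
          exact ⟨inv_mem ha, by rw [inv_pow, ha', inv_one]⟩ }
    have hRm : ∀ c, c ∈ R ↔ c ∈ C ∧ c ^ r = 1 := fun c => Iff.rfl
    have hRC : R ≤ C := fun c hc => hc.1
    have hRodd : Odd (Nat.card R) := hodd.of_dvd_nat (card_dvd_of_le hRC)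
    have hord : ∀ c ∈ R, c ≠ 1 → orderOf c = r := fun c hc h1 => orderOf_eq_prime hc.2 h1
    have hR1 : ∀ c ∈ R, T1 * c * T1⁻¹ = c⁻¹ := by
      refine (inv_of_fpf hT12 R (fun c hc => ⟨hT1C c hc.1, by rw [conj_pow, hc.2]; group⟩) hRodd ?_).1
      intro c hc hcT
      by_contra h1
      have h2 := hord c hc h1
      rcases hc1 c hcT ((hCiff c).1 hc.1).2 (by rw [h2]; exact hr) with h3 | h3
      · exact hr2 (h2.symm.trans h3)
      · exact hne (h2.symm.trans h3)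
    have hR2 : ∀ c ∈ R, T2 * c * T2⁻¹ = c⁻¹ := by
      refine (inv_of_fpf hT22 R (fun c hc => ⟨hT2C c hc.1, by rw [conj_pow, hc.2]; group⟩) hRodd ?_).1
      intro c hc hcT
      by_contra h1
      have h2 := hord c hc h1
      rcases hc2 c hcT ((hCiff c).1 hc.1).1 (by rw [h2]; exact hr) with h3 | h3
      · exact hr2 (h2.symm.trans h3)
      · exact hne (h2.symm.trans h3)
    obtain ⟨c, hc⟩ := exists_prime_orderOf_dvd_card' r hd
    have hcr : orderOf (c : G) = r := by rw [← hc]; exact Subgroup.orderOf_coe c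
    have hcR : (c : G) ∈ R := ⟨c.2, by rw [← hcr, pow_orderOf_eq_one]⟩
    have h1 : (T1 * T2) * (c : G) * (T1 * T2)⁻¹ = c := by
      have h2 : (T1 * T2) * (c : G) * (T1 * T2)⁻¹ = T1 * (T2 * c * T2⁻¹) * T1⁻¹ := by group
      rw [h2, hR2 c hcR]
      have h3 : T1 * (c : G)⁻¹ * T1⁻¹ = (T1 * c * T1⁻¹)⁻¹ := by group
      rw [h3, hR1 c hcR, inv_inv]
    have h2 := hinv c c.2
    have h3 := hab _ hTv c c.2
    have h4 : (c : G)⁻¹ = c := by
      have h5 : T1 * T2 * v * (c : G) * (T1 * T2 * v)⁻¹ = c := by rw [h3]; group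
      have h6 : T1 * T2 * v * (c : G) * (T1 * T2 * v)⁻¹ = (T1 * T2) * (v * c * v⁻¹) * (T1 * T2)⁻¹ := by group
      rw [h6, h2] at h5
      have h7 : (T1 * T2) * (c : G)⁻¹ * (T1 * T2)⁻¹ = ((T1 * T2) * c * (T1 * T2)⁻¹)⁻¹ := by group
      rw [h7, h1] at h5
      exact h5
    have h5 : (c : G) ^ 2 = 1 := by
      rw [pow_two]
      nth_rewrite 1 [← h4]
      exact inv_mul_cancel _
    have h6 : orderOf (c : G) ∣ 2 := orderOf_dvd_of_pow_eq_one h5
    rw [hcr] at h6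
    exact hr2 ((Nat.prime_dvd_prime_iff_eq hr Nat.prime_two).1 h6)
  -- the parametrization
  have hle : 169 ≤ Nat.card C := by
    have h1 : Function.Injective (fun p : Fin 13 × Fin 13 =>
        (⟨y1 ^ (p.1 : ℕ) * y2 ^ (p.2 : ℕ), mul_mem (pow_mem hy1C _) (pow_mem hy2C _)⟩ : C)) := by
      intro p q hpq
      obtain ⟨h1, h2⟩ := inj_two hy o1 o2 hn p.1.2 p.2.2 q.1.2 q.2.2 (congrArg Subtype.val hpq)
      exact Prod.ext (Fin.ext h1) (Fin.ext h2)
    have h2 := Nat.card_le_card_of_injective _ h1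
    rwa [Nat.card_prod, Nat.card_eq_fintype_card, Fintype.card_fin] at h2
  have hcard : Nat.card C = 13 ^ 2 := by
    have h1 : Nat.card C = 13 ^ (Nat.card C).primeFactorsList.length :=
      Nat.eq_prime_pow_of_unique_prime_dvd Nat.card_pos.ne' fun {d} hd hdd => hprime d hd hdd
    generalize (Nat.card C).primeFactorsList.length = k at h1
    have h2 : k ≤ 2 := by
      by_contra hlt
      exact h13 ((pow_dvd_pow 13 (by omega)).trans (h1 ▸ card_subgroup_dvd_card C))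
    have h3 : 2 ≤ k := by
      by_contra hlt
      have h4 : 13 ^ k ≤ 13 ^ 1 := Nat.pow_le_pow_right (by norm_num) (by omega)
      omega
    rw [h1, show k = 2 by omega]
  refine ⟨hcard, fun c hc => hinv c ((hCm c).2 hc), fun c hc => ?_⟩
  have h1 : Function.Injective (fun p : Fin 13 × Fin 13 =>
      (⟨y1 ^ (p.1 : ℕ) * y2 ^ (p.2 : ℕ), mul_mem (pow_mem hy1C _) (pow_mem hy2C _)⟩ : C)) := by
    intro p q hpq
    obtain ⟨h1, h2⟩ := inj_two hy o1 o2 hn p.1.2 p.2.2 q.1.2 q.2.2 (congrArg Subtype.val hpq)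
    exact Prod.ext (Fin.ext h1) (Fin.ext h2)
  have h2 := ((Nat.bijective_iff_injective_and_card _).2 ⟨h1, by
    rw [hcard, Nat.card_prod, Nat.card_eq_fintype_card, Fintype.card_fin]; norm_num⟩).2 ⟨c, (hCm c).2 hc⟩
  obtain ⟨p, hp⟩ := h2
  exact ⟨p.1, p.2, (congrArg Subtype.val hp).symm⟩

end

end Cfsg.Agent.H47.TFour
end

-- part: H47/FixThirteen
section
/-!
# A Frobenius group `13 : 12` acting on an elementary abelian 2-group (helper47, S5936, tasks E and F)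
-/

set_option autoImplicit false

namespace Cfsg.Agent.H47.TFour

open Subgroup

/-! ### F1 -/

theorem sum_pow_mul {E : Type*} [Ring E] {X : E} (hX : X ^ 13 = 1) {m : ℕ} (hm : Nat.Coprime m 13) :
    ∑ j ∈ Finset.range 13, X ^ (j * m) = ∑ j ∈ Finset.range 13, X ^ j := by
  refine Finset.sum_nbij (fun j => j * m % 13) ?_ ?_ ?_ ?_
  · intro j _
    exact Finset.mem_coe.2 (Finset.mem_range.2 (Nat.mod_lt _ (by norm_num)))
  · intro i hi j hj h
    have hi' := Finset.mem_range.1 (Finset.mem_coe.1 hi)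
    have hj' := Finset.mem_range.1 (Finset.mem_coe.1 hj)
    have h1 : i * m ≡ j * m [MOD 13] := h
    have h2 : i ≡ j [MOD 13] := Nat.ModEq.cancel_right_of_coprime (by rw [Nat.gcd_comm]; exact hm) h1
    rw [Nat.ModEq, Nat.mod_eq_of_lt hi', Nat.mod_eq_of_lt hj'] at h2
    exact h2
  · intro j hj
    have hj' := Finset.mem_range.1 (Finset.mem_coe.1 hj)
    obtain ⟨n, -, hn⟩ := Nat.exists_mul_mod_eq_one_of_coprime hm (by norm_num)
    refine ⟨j * n % 13, Finset.mem_coe.2 (Finset.mem_range.2 (Nat.mod_lt _ (by norm_num))), ?_⟩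
    show j * n % 13 * m % 13 = j
    rw [Nat.mod_mul_mod, mul_assoc, mul_comm n m, Nat.mul_mod, hn, mul_one, Nat.mod_mod, Nat.mod_eq_of_lt hj']
  · intro j _
    show X ^ (j * m) = X ^ (j * m % 13)
    conv_lhs => rw [← Nat.div_add_mod (j * m) 13]
    rw [pow_add, pow_mul, hX, one_pow, one_mul]

theorem s_pow {E : Type*} [Ring E] {X S : E} (h : S * X = X ^ 2 * S) (i j : ℕ) : S ^ i * X ^ j = X ^ (j * 2 ^ i) * S ^ i := by
  have h1 : ∀ j : ℕ, S * X ^ j = X ^ (j * 2) * S := by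
    intro j
    induction j with
    | zero => simp
    | succ j ih =>
      rw [pow_succ, ← mul_assoc, ih, mul_assoc, h, ← mul_assoc, ← pow_add]
      congr 2
      ring
  induction i generalizing j with
  | zero => simp
  | succ i ih =>
    rw [pow_succ, mul_assoc, h1, ← mul_assoc, ih, mul_assoc]
    congr 2
    ring

theorem ring_aux {E : Type*} [Ring E] {X S : E} (hX : X ^ 13 = 1) (hSX : S * X = X ^ 2 * S)
    (hsum : ∑ j ∈ Finset.range 13, X ^ j = 0) (hT : ∑ i ∈ Finset.range 12, S ^ i = 0) : (13 : E) = 0 := by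
  have h1 : ∀ j : ℕ, ∑ i ∈ Finset.range 12, X ^ (j * (12 + 2 ^ i)) * S ^ i = 0 := by
    intro j
    have h2 : X ^ (j * 12) * (∑ i ∈ Finset.range 12, S ^ i) * X ^ j = 0 := by rw [hT, mul_zero, zero_mul]
    rw [Finset.mul_sum, Finset.sum_mul] at h2
    rw [← h2]
    refine Finset.sum_congr rfl fun i _ => ?_
    rw [mul_assoc, s_pow hSX, ← mul_assoc, ← pow_add]
    congr 2
    ring
  have h2 : ∑ j ∈ Finset.range 13, ∑ i ∈ Finset.range 12, X ^ (j * (12 + 2 ^ i)) * S ^ i = 0 :=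
    Finset.sum_eq_zero fun j _ => h1 j
  rw [Finset.sum_comm, Finset.sum_range_succ'] at h2
  have h3 : ∀ i ∈ Finset.range 11, ∑ j ∈ Finset.range 13, X ^ (j * (12 + 2 ^ (i + 1))) * S ^ (i + 1) = 0 := by
    intro i hi
    rw [← Finset.sum_mul, sum_pow_mul hX, hsum, zero_mul]
    have hi' := Finset.mem_range.1 hi
    interval_cases i <;> decide
  rw [Finset.sum_eq_zero h3, zero_add] at h2
  have h4 : ∀ j ∈ Finset.range 13, X ^ (j * (12 + 2 ^ 0)) * S ^ 0 = 1 := by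
    intro j _
    rw [pow_zero, pow_zero, mul_one, mul_comm, show 12 + 1 = 13 from rfl, pow_mul, hX, one_pow]
  rw [Finset.sum_congr rfl h4] at h2
  simpa using h2

theorem exists_fix {G : Type*} [Group G] [Finite G] {x s : G} (x13 : x ^ 13 = 1) (s12 : s ^ 12 = 1)
    (hsx : s * x * s⁻¹ = x ^ 2) {N : Subgroup G} (hN : ∀ a ∈ N, a * a = 1) (hx : ∀ a ∈ N, x * a * x⁻¹ ∈ N)
    (hs : ∀ a ∈ N, s * a * s⁻¹ ∈ N) (hf : ∀ a ∈ N, a * x = x * a → a = 1) (hb : N ≠ ⊥) :
    ∃ n ∈ N, n ≠ 1 ∧ n * s = s * n := by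
  classical
  have hcomm : ∀ a b : N, a * b = b * a := by
    intro a b
    have ha : a * a = 1 := Subtype.ext (hN a a.2)
    have hb : b * b = 1 := Subtype.ext (hN b b.2)
    have hab : (a * b) * (a * b) = 1 := Subtype.ext (hN _ (a * b).2)
    have h1 : (a * b)⁻¹ = a * b := inv_eq_of_mul_eq_one_right hab
    rw [← h1, mul_inv_rev, inv_eq_of_mul_eq_one_right ha, inv_eq_of_mul_eq_one_right hb]
  let _ : CommGroup N := { (inferInstance : Group N) with mul_comm := hcomm }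
  -- the two endomorphisms
  let cj : (g : G) → (∀ a ∈ N, g * a * g⁻¹ ∈ N) → AddMonoid.End (Additive N) := fun g hg =>
    { toFun := fun a => Additive.ofMul ⟨g * (Additive.toMul a : N) * g⁻¹, hg _ (Additive.toMul a).2⟩
      map_zero' := by
        apply congrArg Additive.ofMul
        apply Subtype.ext
        show g * (1 : G) * g⁻¹ = 1
        group
      map_add' := fun a b => by
        apply congrArg Additive.ofMul
        apply Subtype.ext
        show g * ((Additive.toMul a : N) * (Additive.toMul b : N) : G) * g⁻¹ =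
          (g * (Additive.toMul a : N) * g⁻¹) * (g * (Additive.toMul b : N) * g⁻¹)
        group }
  have hcj : ∀ (g : G) (hg : ∀ a ∈ N, g * a * g⁻¹ ∈ N) (a : Additive N),
      ((Additive.toMul (cj g hg a) : N) : G) = g * (Additive.toMul a : N) * g⁻¹ := fun _ _ _ => rfl
  have hpow : ∀ (g : G) (hg : ∀ a ∈ N, g * a * g⁻¹ ∈ N) (k : ℕ) (a : Additive N),
      ((Additive.toMul (((cj g hg) ^ k) a) : N) : G) = g ^ k * (Additive.toMul a : N) * (g ^ k)⁻¹ := by
    intro g hg k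
    induction k with
    | zero => intro a; simp
    | succ k ih =>
      intro a
      rw [pow_succ']
      show ((Additive.toMul (cj g hg (((cj g hg) ^ k) a)) : N) : G) = _
      rw [hcj, ih, pow_succ']
      group
  let X := cj x hx
  let S := cj s hs
  have hX : X ^ 13 = 1 := by
    ext a
    rw [hpow, x13]
    simp
  have hSX : S * X = X ^ 2 * S := by
    ext a
    show ((Additive.toMul (S (X a)) : N) : G) = ((Additive.toMul ((X ^ 2) (S a)) : N) : G)
    rw [hcj, hcj, hpow, hcj, ← hsx]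
    group
  have hsum : ∑ j ∈ Finset.range 13, X ^ j = 0 := by
    have h1 : X * ∑ j ∈ Finset.range 13, X ^ j = ∑ j ∈ Finset.range 13, X ^ j := by
      have h2 := Finset.sum_range_succ (fun j => X ^ j) 13
      have h3 := Finset.sum_range_succ' (fun j => X ^ j) 13
      rw [h2, hX, pow_zero] at h3
      have h4 := add_right_cancel h3
      conv_rhs => rw [h4]
      rw [Finset.mul_sum]
      refine Finset.sum_congr rfl fun j _ => ?_
      rw [← pow_succ']
    ext a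
    have h2 : X ((∑ j ∈ Finset.range 13, X ^ j) a) = (∑ j ∈ Finset.range 13, X ^ j) a :=
      congrArg (fun f : AddMonoid.End (Additive N) => f a) h1
    set c := (∑ j ∈ Finset.range 13, X ^ j) a with hc
    have h3 := hcj x hx c
    have h4 : ((Additive.toMul (cj x hx c) : N) : G) = (Additive.toMul c : N) :=
      congrArg (fun d : Additive N => ((Additive.toMul d : N) : G)) h2
    rw [h4] at h3
    have h5 := hf _ (Additive.toMul c : N).2 (mul_inv_eq_iff_eq_mul.1 h3.symm).symm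
    rw [h5]
    rfl
  have h2 : (2 : AddMonoid.End (Additive N)) = 0 := by
    ext a
    have h3 : (2 : AddMonoid.End (Additive N)) a = a + a := by
      rw [show (2 : AddMonoid.End (Additive N)) = 1 + 1 by norm_num]
      rfl
    rw [h3]
    show ((Additive.toMul a : N) : G) * (Additive.toMul a : N) = 1
    exact hN _ (Additive.toMul a : N).2
  by_contra hcon
  push Not at hcon
  have hT : ∑ i ∈ Finset.range 12, S ^ i = 0 := by
    have h1 : S * ∑ j ∈ Finset.range 12, S ^ j = ∑ j ∈ Finset.range 12, S ^ j := by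
      have hS : S ^ 12 = 1 := by
        ext a
        rw [hpow, s12]
        simp
      have h2 := Finset.sum_range_succ (fun j => S ^ j) 12
      have h3 := Finset.sum_range_succ' (fun j => S ^ j) 12
      rw [h2, hS, pow_zero] at h3
      have h4 := add_right_cancel h3
      conv_rhs => rw [h4]
      rw [Finset.mul_sum]
      refine Finset.sum_congr rfl fun j _ => ?_
      rw [← pow_succ']
    ext a
    have h2 : S ((∑ j ∈ Finset.range 12, S ^ j) a) = (∑ j ∈ Finset.range 12, S ^ j) a :=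
      congrArg (fun f : AddMonoid.End (Additive N) => f a) h1
    set c := (∑ j ∈ Finset.range 12, S ^ j) a with hc
    have h3 := hcj s hs c
    have h4 : ((Additive.toMul (cj s hs c) : N) : G) = (Additive.toMul c : N) :=
      congrArg (fun d : Additive N => ((Additive.toMul d : N) : G)) h2
    rw [h4] at h3
    have h5 : ((Additive.toMul c : N) : G) * s = s * (Additive.toMul c : N) := mul_inv_eq_iff_eq_mul.1 h3.symm |>.symm
    by_contra h6
    refine hcon _ (Additive.toMul c : N).2 ?_ h5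
    intro h7
    exact h6 h7
  have h13 := ring_aux hX hSX hsum hT
  have h1 : (1 : AddMonoid.End (Additive N)) = 0 := by
    have h3 : (13 : AddMonoid.End (Additive N)) = 2 * 6 + 1 := by norm_num
    rw [h3, h2, zero_mul, zero_add] at h13
    exact h13
  apply hb
  rw [eq_bot_iff]
  intro a ha
  have h3 := congrArg (fun f : AddMonoid.End (Additive N) => ((Additive.toMul (f (Additive.ofMul ⟨a, ha⟩)) : N) : G)) h1
  exact h3

end Cfsg.Agent.H47.TFour
end

-- part: H857/Ree8/Facts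
section
/-!
# The elements of `²F₄(8)`: relations in the group, the centraliser of `x`
-/

set_option autoImplicit false
set_option linter.unusedSectionVars false
set_option maxRecDepth 20000

namespace Cfsg.Agent.H857.Ree8.Facts

open Cfsg.Lie Cfsg.Agent.ChevalleyStructure.TwF4.TwistedFix
open Cfsg.Agent.H857.Ree8 Cfsg.Agent.H857.Ree8.Root Cfsg.Agent.H857.Ree8.Code Cfsg.Agent.H857.Ree8.Word
open Cfsg.Agent.H857.Ree8.Data Cfsg.Agent.H857.Ree8.Enum
open Cfsg.Agent.KFacts.TwF4 Subgroup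

universe u

/-- the hypotheses -/
structure Ctx (K : Type u) [Field K] [Fintype K] [CharP K 2] (φ : K →+* K) (θ : K) : Prop where
  hK : Fintype.card K = 2 ^ (2 * 1 + 1)
  hφ : Rln φ (2 ^ 1)
  hθ : θ ^ 3 = θ + 1
  hs : IsSimpleGroup (GG K)
  hna : ¬ IsMulCommutative (GG K)
  hcard : Nat.card (GG K) = 2 ^ 36 * 3 ^ 5 * 5 ^ 2 * 7 ^ 2 * 13 ^ 2 * 19 * 37 * 109

theorem n_x : (ok xW && ok [] && !(beqM (ev xW idM) (ev [] idM))) = true := by decide +kernel
theorem n_a : (ok aW && ok [] && !(beqM (ev aW idM) (ev [] idM))) = true := by decide +kernel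
theorem n_b : (ok bW && ok [] && !(beqM (ev bW idM) (ev [] idM))) = true := by decide +kernel
theorem n_t1 : (ok [Tok.e 4 0 1] && ok [] && !(beqM (ev [Tok.e 4 0 1] idM) (ev [] idM))) = true := by decide +kernel
theorem n_t2 : (ok [Tok.e 6 0 1] && ok [] && !(beqM (ev [Tok.e 6 0 1] idM) (ev [] idM))) = true := by decide +kernel
theorem r_t1 : chk ([Tok.e 4 0 1] ++ [Tok.e 4 0 1]) [] = true := by decide +kernel
theorem r_t2 : chk ([Tok.e 6 0 1] ++ [Tok.e 6 0 1]) [] = true := by decide +kernel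
theorem r_t1a : chk ([Tok.e 4 0 1] ++ aW ++ [Tok.e 4 0 1] ++ aW) [] = true := by decide +kernel
theorem r_t2b : chk ([Tok.e 6 0 1] ++ bW ++ [Tok.e 6 0 1] ++ bW) [] = true := by decide +kernel
theorem r_t1b : chk ([Tok.e 4 0 1] ++ bW) (bW ++ [Tok.e 4 0 1]) = true := by decide +kernel
theorem r_t2a : chk ([Tok.e 6 0 1] ++ aW) (aW ++ [Tok.e 6 0 1]) = true := by decide +kernel
theorem r_vx : chk ([Tok.o 2 1] ++ xW ++ [Tok.o 2 1] ++ xW) [] = true := by decide +kernel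
theorem r_v2 : chk ([Tok.o 2 1] ++ [Tok.o 2 1]) [] = true := by decide +kernel
theorem r_d3 : chk (pw dW 3) [] = true := by decide +kernel
theorem n_d : (ok dW && ok [] && !(beqM (ev dW idM) (ev [] idM))) = true := by decide +kernel

variable {K : Type u} [Field K] [Fintype K] [CharP K 2] {φ : K →+* K} {θ : K} (c : Ctx K φ θ)

/-- the coordinates -/
noncomputable def SS : Full φ (GG K) := Inst.full c.hK c.hφ

/-- the group element of a word -/
noncomputable def g (w : List Tok) : GG K := wg c.hφ θ w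

theorem g_app (v w : List Tok) : g c (v ++ w) = g c v * g c w := wg_append c.hφ v w
theorem g_pw (w : List Tok) (n : ℕ) : g c (pw w n) = g c w ^ n := wg_pw c.hφ w n
theorem g_nil : g c [] = 1 := rfl

theorem eqv {v w : List Tok} (h : chk v w = true) : g c v = g c w := by
  have := c.hs
  exact wg_eq c.hφ c.hna c.hθ h

theorem nev {v w : List Tok} (h : (ok v && ok w && !(beqM (ev v idM) (ev w idM))) = true) : g c v ≠ g c w :=
  wg_ne c.hφ c.hθ idM h

include c in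
theorem card8 : Nat.card K = 8 := by rw [Nat.card_eq_fintype_card, c.hK]; norm_num

include c in
theorem hF : ∃ u : Kˣ, u ≠ 1 := Cfsg.Agent.H496.TwEight.Card.exists_unit_of_card (card8 c)

theorem tok_o (a t : ℕ) (w : List Tok) : g c (Tok.o a t :: w) = (SS c).o (a : ZMod 8) (gf θ t) * g c w :=
  wg_cons c.hφ _ _
theorem tok_e (a p u : ℕ) (w : List Tok) : g c (Tok.e a p u :: w) = (SS c).e (a : ZMod 8) (gf θ p) (gf θ u) * g c w :=
  wg_cons c.hφ _ _

theorem x13 : g c xW ^ 13 = 1 := by rw [← g_pw, eqv c r_x13, g_nil]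
theorem x1 : g c xW ≠ 1 := nev c n_x
theorem s12 : g c sW ^ 12 = 1 := by rw [← g_pw, eqv c r_s12, g_nil]
theorem sx : g c sW * g c xW * (g c sW)⁻¹ = g c xW ^ 2 := by
  have h := eqv c r_sx
  rw [g_app, g_app, g_pw] at h
  rw [h, mul_inv_cancel_right]

theorem gv : g c [Tok.o 2 1] = (SS c).o 2 1 := by
  rw [tok_o, g_nil, mul_one, gf_one]; rfl

theorem s6 : g c sW ^ 6 = (SS c).o 2 1 := by
  rw [← g_pw, eqv c r_s6, gv]

theorem gd : g c dW = Cfsg.Agent.H519.TwFE.dd (SS c) := by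
  unfold dW
  rw [tok_o, tok_o, g_nil, mul_one, gf_one]; rfl

theorem s4 : g c sW ^ 4 = Cfsg.Agent.H519.TwFE.dd (SS c) := by
  rw [← g_pw, eqv c r_s4, gd]

theorem wi2 {i : ℕ} (hi : i < 3) : g c (wW i) * g c (wW i) = 1 := by
  have h := List.all_eq_true.1 r_w2 i (List.mem_range.2 hi)
  rw [← g_app, eqv c h, g_nil]

theorem wis {i : ℕ} (hi : i < 3) : g c (wW i) * g c sW * (g c (wW i))⁻¹ = (g c sW)⁻¹ := by
  have h := List.all_eq_true.1 r_ws i (List.mem_range.2 hi)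
  have e := eqv c h
  rw [g_app, g_app, g_pw] at e
  rw [inv_eq_of_mul_eq_one_left (wi2 c hi), e]
  symm
  apply inv_eq_of_mul_eq_one_left
  rw [← pow_succ, s12]

theorem wix {i : ℕ} (hi : i < 3) : (g c xW * g c (wW i)) ^ 3 = 1 := by
  have h := List.all_eq_true.1 r_xw i (List.mem_range.2 hi)
  rw [← g_app, ← g_pw, eqv c h, g_nil]

theorem rel {i : ℕ} (hi : i < 3) : Rel (g c xW) (g c sW) (g c (wW i)) :=
  ⟨x13 c, x1 c, s12 c, sx c, wi2 c hi, wis c hi, wix c hi⟩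

theorem ox : orderOf (g c xW) = 13 := by
  have : Fact (Nat.Prime 13) := ⟨by norm_num⟩
  exact orderOf_eq_prime (x13 c) (x1 c)

theorem oa : orderOf (g c aW) = 13 := by
  have : Fact (Nat.Prime 13) := ⟨by norm_num⟩
  exact orderOf_eq_prime (by rw [← g_pw, eqv c r_a13, g_nil]) (nev c n_a)

theorem ob : orderOf (g c bW) = 13 := by
  have : Fact (Nat.Prime 13) := ⟨by norm_num⟩
  exact orderOf_eq_prime (by rw [← g_pw, eqv c r_b13, g_nil]) (nev c n_b)

theorem a13 : g c aW ^ 13 = 1 := by rw [← oa c, pow_orderOf_eq_one]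
theorem b13 : g c bW ^ 13 = 1 := by rw [← ob c, pow_orderOf_eq_one]

theorem hab : g c aW * g c bW = g c bW * g c aW := by
  rw [← g_app, ← g_app, eqv c r_ab]

/-! ### traces -/

/-- the trace -/
noncomputable def tr (y : GG K) : K := Matrix.trace (AG K y)

theorem tr_conj {y z : GG K} (h : IsConj y z) : tr y = tr z := trace_conj h

theorem tr_g {w : List Tok} (hw : ok w = true) {n : ℕ} (h : trc (ev w idM) = n) : tr (g c w) = gf θ n :=
  trace_wg c.hφ c.hθ hw h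

/-- conjugation by `a1` -/
theorem ca (i j : ℕ) : IsConj (g c aW ^ i * g c bW ^ j) (g c aW ^ (5 * i) * g c bW ^ j) := by
  refine isConj_iff.2 ⟨g c a1W, ?_⟩
  have h1 := eqv c r_a1a
  have h2 := eqv c r_a1b
  rw [g_app, g_app, g_pw] at h1
  rw [g_app, g_app] at h2
  have e1 : g c a1W * g c aW * (g c a1W)⁻¹ = g c aW ^ 5 := by rw [h1, mul_inv_cancel_right]
  have e2 : g c a1W * g c bW * (g c a1W)⁻¹ = g c bW := by rw [h2, mul_inv_cancel_right]
  calc g c a1W * (g c aW ^ i * g c bW ^ j) * (g c a1W)⁻¹ =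
      (g c a1W * g c aW * (g c a1W)⁻¹) ^ i * (g c a1W * g c bW * (g c a1W)⁻¹) ^ j := by
        rw [conj_pow, conj_pow]; group
    _ = _ := by rw [e1, e2, ← pow_mul]

/-- conjugation by `b1` -/
theorem cb (i j : ℕ) : IsConj (g c aW ^ i * g c bW ^ j) (g c aW ^ i * g c bW ^ (5 * j)) := by
  refine isConj_iff.2 ⟨g c b1W, ?_⟩
  have h1 := eqv c r_b1b
  have h2 := eqv c r_b1a
  rw [g_app, g_app, g_pw] at h1
  rw [g_app, g_app] at h2
  have e1 : g c b1W * g c bW * (g c b1W)⁻¹ = g c bW ^ 5 := by rw [h1, mul_inv_cancel_right]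
  have e2 : g c b1W * g c aW * (g c b1W)⁻¹ = g c aW := by rw [h2, mul_inv_cancel_right]
  calc g c b1W * (g c aW ^ i * g c bW ^ j) * (g c b1W)⁻¹ =
      (g c b1W * g c aW * (g c b1W)⁻¹) ^ i * (g c b1W * g c bW * (g c b1W)⁻¹) ^ j := by
        rw [conj_pow, conj_pow]; group
    _ = _ := by rw [e1, e2, ← pow_mul]

theorem cab (m n i j : ℕ) : IsConj (g c aW ^ i * g c bW ^ j) (g c aW ^ (5 ^ m * i) * g c bW ^ (5 ^ n * j)) := by
  have h1 : ∀ m, IsConj (g c aW ^ i * g c bW ^ j) (g c aW ^ (5 ^ m * i) * g c bW ^ j) := by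
    intro m
    induction m with
    | zero => rw [pow_zero, one_mul]
    | succ m ih =>
      have := ca c (5 ^ m * i) j
      rw [← mul_assoc, ← pow_succ'] at this
      exact ih.trans this
  have h2 : ∀ n, IsConj (g c aW ^ (5 ^ m * i) * g c bW ^ j) (g c aW ^ (5 ^ m * i) * g c bW ^ (5 ^ n * j)) := by
    intro n
    induction n with
    | zero => rw [pow_zero, one_mul]
    | succ n ih =>
      have := cb c (5 ^ m * i) (5 ^ n * j)
      rw [← mul_assoc, ← pow_succ'] at this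
      exact ih.trans this
  exact (h1 m).trans (h2 n)

theorem red (i j : ℕ) : g c aW ^ i * g c bW ^ j = g c aW ^ (i % 13) * g c bW ^ (j % 13) := by
  rw [pow_eq_pow_mod i (a13 c), pow_eq_pow_mod j (b13 c)]

theorem cab' {i j i' j' : ℕ} (m n : ℕ) (hi : (5 ^ m * i) % 13 = i' % 13) (hj : (5 ^ n * j) % 13 = j' % 13) :
    IsConj (g c aW ^ i * g c bW ^ j) (g c aW ^ i' * g c bW ^ j') := by
  have h := cab c m n i j
  rw [red c (5 ^ m * i), hi, hj, ← red c i'] at h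
  exact h

end Cfsg.Agent.H857.Ree8.Facts
end

-- part: H857/Ree8/Facts2
section
/-!
# `²F₄(8)`: the classes of the elements `a ^ i b ^ j` of order 13
-/

set_option autoImplicit false
set_option linter.unusedSectionVars false
set_option maxRecDepth 20000

namespace Cfsg.Agent.H857.Ree8.Facts2

open Cfsg.Lie Cfsg.Agent.ChevalleyStructure.TwF4.TwistedFix
open Cfsg.Agent.H857.Ree8 Cfsg.Agent.H857.Ree8.Root Cfsg.Agent.H857.Ree8.Code Cfsg.Agent.H857.Ree8.Word
open Cfsg.Agent.H857.Ree8.Data Cfsg.Agent.H857.Ree8.Enum Cfsg.Agent.H857.Ree8.Facts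
open Cfsg.Agent.KFacts.TwF4 Subgroup

universe u

/-- representatives modulo 13 of the orbits of `5` -/
def rp (i : ℕ) : ℕ := ([0, 1, 2, 2, 4, 1, 4, 4, 1, 4, 2, 2, 1] : List ℕ).getD (i % 13) 0

theorem rp_mod (i : ℕ) : rp (i % 13) = rp i := by unfold rp; rw [Nat.mod_mod]

theorem rp_ex (i : ℕ) : ∃ m, (5 ^ m * i) % 13 = rp i % 13 := by
  have h : ∀ r < 13, ∃ m < 4, (5 ^ m * r) % 13 = rp r % 13 := by decide
  obtain ⟨m, -, hm⟩ := h (i % 13) (Nat.mod_lt _ (by norm_num))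
  refine ⟨m, ?_⟩
  rw [rp_mod, Nat.mul_mod_mod] at hm
  exact hm

theorem rp_cases (i : ℕ) : rp i = 0 ∨ rp i = 1 ∨ rp i = 2 ∨ rp i = 4 := by
  have h : ∀ r < 13, rp r = 0 ∨ rp r = 1 ∨ rp r = 2 ∨ rp r = 4 := by decide
  have := h (i % 13) (Nat.mod_lt _ (by norm_num))
  rwa [rp_mod] at this

/-- the condition of being conjugate to `x` -/
def Eig (i j : ℕ) : Prop := rp i ≠ 0 ∧ rp j ≠ 0 ∧ rp i ≠ rp j

instance (i j : ℕ) : Decidable (Eig i j) := by unfold Eig; infer_instance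

theorem Eig_mod (i j : ℕ) : Eig (i % 13) (j % 13) ↔ Eig i j := by unfold Eig; rw [rp_mod, rp_mod]

theorem eig_iff (i j : ℕ) : Eig i j ↔ (¬ 13 ∣ i ∧ ¬ 13 ∣ j ∧ ¬ (i ^ 4 ≡ j ^ 4 [MOD 13])) := by
  have h : ∀ i < 13, ∀ j < 13, (Eig i j ↔ (¬ i = 0 ∧ ¬ j = 0 ∧ ¬ (i ^ 4 % 13 = j ^ 4 % 13))) := by decide
  have := h (i % 13) (Nat.mod_lt _ (by norm_num)) (j % 13) (Nat.mod_lt _ (by norm_num))
  rw [Eig_mod, ← Nat.pow_mod, ← Nat.pow_mod] at this
  rw [this, Nat.dvd_iff_mod_eq_zero, Nat.dvd_iff_mod_eq_zero, Nat.ModEq]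

/-- the traces -/
def tT (p q : ℕ) : ℕ :=
  if p = 0 then (if q = 1 then 5 else if q = 2 then 7 else if q = 4 then 3 else 0)
  else if q = 0 then (if p = 1 then 5 else if p = 2 then 7 else if p = 4 then 3 else 0)
  else if p = q then (if q = 1 then 3 else if q = 2 then 5 else if q = 4 then 7 else 0) else 0

theorem tT_ne (i j : ℕ) (h : ¬ (13 ∣ i ∧ 13 ∣ j)) (he : ¬ Eig i j) : tT (rp i) (rp j) ≠ 0 ∧
    tT (rp i) (rp j) ≠ tT (rp (4 * i)) (rp (4 * j)) := by
  have key : ∀ i < 13, ∀ j < 13, (i = 0 ∧ j = 0) ∨ Eig i j ∨ (tT (rp i) (rp j) ≠ 0 ∧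
    tT (rp i) (rp j) ≠ tT (rp (4 * i)) (rp (4 * j))) := by decide
  have := ((key (i % 13) (Nat.mod_lt _ (by norm_num)) (j % 13) (Nat.mod_lt _ (by norm_num))).resolve_left
    (fun h' => h ⟨Nat.dvd_of_mod_eq_zero h'.1, Nat.dvd_of_mod_eq_zero h'.2⟩)).resolve_left (fun h' => he ((Eig_mod i j).1 h'))
  rw [rp_mod, rp_mod, ← rp_mod (4 * (i % 13)), Nat.mul_mod_mod, rp_mod, ← rp_mod (4 * (j % 13)), Nat.mul_mod_mod, rp_mod] at this
  exact this

theorem tT_lt (p q : ℕ) : tT p q < 8 := by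
  unfold tT
  split_ifs <;> norm_num

variable {K : Type u} [Field K] [Fintype K] [CharP K 2] {φ : K →+* K} {θ : K} (c : Ctx K φ θ)

theorem conj_rp (i j : ℕ) : IsConj (g c aW ^ i * g c bW ^ j) (g c aW ^ rp i * g c bW ^ rp j) := by
  obtain ⟨m, hm⟩ := rp_ex i
  obtain ⟨n, hn⟩ := rp_ex j
  exact cab' c m n hm hn

theorem isConj_pow' {G : Type*} [Group G] {a b : G} (n : ℕ) (h : IsConj a b) : IsConj (a ^ n) (b ^ n) := by
  obtain ⟨k, hk⟩ := isConj_iff.1 h
  refine isConj_iff.2 ⟨k, ?_⟩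
  rw [← hk, conj_pow]

theorem ab_pow (i j n : ℕ) : (g c aW ^ i * g c bW ^ j) ^ n = g c aW ^ (i * n) * g c bW ^ (j * n) := by
  have h : Commute (g c aW) (g c bW) := hab c
  rw [(h.pow_pow i j).mul_pow, pow_mul, pow_mul]

theorem x_two : IsConj (g c xW) (g c xW ^ 2) := isConj_iff.2 ⟨g c sW, sx c⟩

theorem x_four : IsConj (g c xW) (g c xW ^ 4) := by
  refine (x_two c).trans ?_
  have := isConj_pow' 2 (x_two c)
  rw [← pow_mul] at this
  exact this

theorem x_ab2 : IsConj (g c xW) (g c aW ^ 1 * g c bW ^ 2) := by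
  have h := eqv c r_g1
  rw [g_app, g_app, g_app, g_pw] at h
  refine isConj_iff.2 ⟨(g c g1W)⁻¹, ?_⟩
  rw [inv_inv, mul_assoc, ← h]
  group

theorem x_ab4 : IsConj (g c xW) (g c aW ^ 1 * g c bW ^ 4) := by
  have h := eqv c r_g2
  rw [g_app, g_app, g_app, g_pw] at h
  refine isConj_iff.2 ⟨(g c g2W)⁻¹, ?_⟩
  rw [inv_inv, mul_assoc, ← h]
  group

theorem x_pair {k : ℕ} (hk : k = 1 ∨ k = 2 ∨ k = 4) : IsConj (g c xW) (g c aW ^ k * g c bW ^ (2 * k)) ∧
    IsConj (g c xW) (g c aW ^ k * g c bW ^ (4 * k)) := by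
  have h1 : IsConj (g c xW) (g c xW ^ k) := by
    rcases hk with rfl | rfl | rfl
    · rw [pow_one (g c xW)]
    · exact x_two c
    · exact x_four c
  have h2 := isConj_pow' k (x_ab2 c)
  have h4 := isConj_pow' k (x_ab4 c)
  rw [ab_pow, one_mul] at h2 h4
  exact ⟨h1.trans h2, h1.trans h4⟩

theorem x_rp : ∀ p q : ℕ, (p = 1 ∨ p = 2 ∨ p = 4) → (q = 1 ∨ q = 2 ∨ q = 4) → p ≠ q →
    IsConj (g c xW) (g c aW ^ p * g c bW ^ q) := by
  intro p q hp hq hne
  obtain ⟨h1, h2⟩ := x_pair c hp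
  rcases hp with rfl | rfl | rfl <;> rcases hq with rfl | rfl | rfl
  · exact absurd rfl hne
  · exact h1
  · exact h2
  · exact h2.trans (cab' c 0 1 (by norm_num) (by norm_num))
  · exact absurd rfl hne
  · exact h1
  · exact h1.trans (cab' c 0 1 (by norm_num) (by norm_num))
  · exact h2.trans (cab' c 0 1 (by norm_num) (by norm_num))
  · exact absurd rfl hne

theorem x_conj {i j : ℕ} (h : Eig i j) : IsConj (g c xW) (g c aW ^ i * g c bW ^ j) := by
  refine (x_rp c (rp i) (rp j) ?_ ?_ h.2.2).trans (conj_rp c i j).symm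
  · rcases rp_cases i with h1 | h1
    · exact absurd h1 h.1
    · exact h1
  · rcases rp_cases j with h1 | h1
    · exact absurd h1 h.2.1
    · exact h1

theorem okx : ok xW = true := by decide
theorem oka : ok aW = true := by decide
theorem okb : ok bW = true := by decide

theorem trx : tr (g c xW) = 0 := by
  rw [tr_g c okx tr_x, gf_zero]

theorem tr_pa {n k : ℕ} (h : trc (ev (pw aW n) idM) = k) : tr (g c aW ^ n) = gf θ k := by
  rw [← g_pw]
  exact tr_g c (ok_pw oka n) h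

theorem tr_pb {n k : ℕ} (h : trc (ev (pw bW n) idM) = k) : tr (g c bW ^ n) = gf θ k := by
  rw [← g_pw]
  exact tr_g c (ok_pw okb n) h

theorem tr_a1' : trc (ev (pw aW 1) idM) = 5 := by decide +kernel
theorem tr_b1' : trc (ev (pw bW 1) idM) = 5 := by decide +kernel
theorem tr_ab1' : trc (ev (pw aW 1 ++ pw bW 1) idM) = 3 := by decide +kernel
theorem tr_one' : trc (ev [] idM) = 0 := by decide +kernel

theorem tr_pab {n m k : ℕ} (h : trc (ev (pw aW n ++ pw bW m) idM) = k) : tr (g c aW ^ n * g c bW ^ m) = gf θ k := by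
  rw [← g_pw, ← g_pw, ← g_app]
  exact tr_g c (by rw [ok_append, ok_pw oka n, ok_pw okb m]; rfl) h

theorem tr_rp : ∀ p q : ℕ, (p = 0 ∨ p = 1 ∨ p = 2 ∨ p = 4) → (q = 0 ∨ q = 1 ∨ q = 2 ∨ q = 4) →
    tr (g c aW ^ p * g c bW ^ q) = gf θ (tT p q) := by
  intro p q hp hq
  have hx : ∀ {p q : ℕ}, (p = 1 ∨ p = 2 ∨ p = 4) → (q = 1 ∨ q = 2 ∨ q = 4) → p ≠ q → tr (g c aW ^ p * g c bW ^ q) = gf θ 0 := by
    intro p q hp hq hne
    rw [← tr_conj (x_rp c p q hp hq hne), trx, gf_zero]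
  rcases hp with rfl | rfl | rfl | rfl <;> rcases hq with rfl | rfl | rfl | rfl
  · rw [pow_zero, pow_zero, one_mul, ← g_nil c]; exact tr_g c rfl tr_one'
  · rw [pow_zero, one_mul]; exact tr_pb c tr_b1'
  · rw [pow_zero, one_mul]; exact tr_pb c tr_b.2.1
  · rw [pow_zero, one_mul]; exact tr_pb c tr_b.2.2
  · rw [pow_zero, mul_one]; exact tr_pa c tr_a1'
  · exact tr_pab c tr_ab1'
  · exact hx (by simp) (by simp) (by simp)
  · exact hx (by simp) (by simp) (by simp)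
  · rw [pow_zero, mul_one]; exact tr_pa c tr_a.2.1
  · exact hx (by simp) (by simp) (by simp)
  · exact tr_pab c tr_ab.2.1
  · exact hx (by simp) (by simp) (by simp)
  · rw [pow_zero, mul_one]; exact tr_pa c tr_a.2.2
  · exact hx (by simp) (by simp) (by simp)
  · exact hx (by simp) (by simp) (by simp)
  · exact tr_pab c tr_ab.2.2

theorem tr_ij (i j : ℕ) : tr (g c aW ^ i * g c bW ^ j) = gf θ (tT (rp i) (rp j)) := by
  rw [tr_conj (conj_rp c i j)]
  exact tr_rp c _ _ (rp_cases i) (rp_cases j)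

theorem ab_one {i j : ℕ} (hi : 13 ∣ i) (hj : 13 ∣ j) : g c aW ^ i * g c bW ^ j = 1 := by
  obtain ⟨m, rfl⟩ := hi
  obtain ⟨n, rfl⟩ := hj
  rw [pow_mul, pow_mul, a13, b13, one_pow, one_pow, one_mul]

/-- the elements conjugate to `x` -/
theorem x_iff (i j : ℕ) : IsConj (g c xW) (g c aW ^ i * g c bW ^ j) ↔
    (¬ 13 ∣ i ∧ ¬ 13 ∣ j ∧ ¬ (i ^ 4 ≡ j ^ 4 [MOD 13])) := by
  rw [← eig_iff]
  constructor
  · intro h
    by_contra he
    have h0 : ¬ (13 ∣ i ∧ 13 ∣ j) := by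
      rintro ⟨hi, hj⟩
      rw [ab_one c hi hj] at h
      obtain ⟨k, hk⟩ := isConj_iff.1 h.symm
      rw [mul_one, mul_inv_cancel] at hk
      exact x1 c hk.symm
    have h1 := tr_conj h
    rw [trx, tr_ij, ← gf_zero (θ := θ)] at h1
    exact (tT_ne i j h0 he).1 (gf_inj c.hθ (by norm_num) (tT_lt _ _) h1).symm
  · exact x_conj c

/-- `x` is not conjugate to a power of `a` -/
theorem x_not_a (k : ℕ) : ¬ IsConj (g c xW) (g c aW ^ k) := by
  intro h
  have : g c aW ^ k = g c aW ^ k * g c bW ^ 0 := by rw [pow_zero, mul_one]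
  rw [this, x_iff] at h
  exact h.2.1 (dvd_zero _)

/-- rational elements -/
theorem of_rat {i j : ℕ} (h0 : ¬ (13 ∣ i ∧ 13 ∣ j)) (h : IsConj (g c aW ^ i * g c bW ^ j) ((g c aW ^ i * g c bW ^ j) ^ 4)) :
    IsConj (g c xW) (g c aW ^ i * g c bW ^ j) := by
  by_contra hx
  have he : ¬ Eig i j := fun he => hx (x_conj c he)
  have h1 := tr_conj h
  rw [ab_pow, mul_comm i 4, mul_comm j 4, tr_ij, tr_ij] at h1
  exact (tT_ne i j h0 he).2 (gf_inj c.hθ (tT_lt _ _) (tT_lt _ _) h1)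

end Cfsg.Agent.H857.Ree8.Facts2
end

-- part: H857/Ree8/Facts3
section
/-!
# `²F₄(8)`: the centralizer of `x`
-/

set_option autoImplicit false
set_option linter.unusedSectionVars false
set_option maxRecDepth 20000

namespace Cfsg.Agent.H857.Ree8.Facts3

open Cfsg.Lie Cfsg.Agent.ChevalleyStructure.TwF4.TwistedFix
open Cfsg.Agent.H857.Ree8 Cfsg.Agent.H857.Ree8.Root Cfsg.Agent.H857.Ree8.Code Cfsg.Agent.H857.Ree8.Word
open Cfsg.Agent.H857.Ree8.Data Cfsg.Agent.H857.Ree8.Enum Cfsg.Agent.H857.Ree8.Facts Cfsg.Agent.H857.Ree8.Facts2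
open Cfsg.Agent.KFacts.TwF4 Subgroup
open Cfsg.Agent.SplitTwo Cfsg.Agent.SplitTwo.ZS Cfsg.Agent.TitsThree.RankTwoZ Cfsg.Agent.SplitTwo.RootSysZ
open Cfsg.Agent.H496.TwEight

universe u

variable {K : Type u} [Field K] [Fintype K] [CharP K 2] {φ : K →+* K} {θ : K} (c : Ctx K φ θ)

include c in
/-- elements commuting with an involution and an element of order 13 -/
theorem prime_cent {t y z : GG K} (ht : orderOf t = 2) (hy : orderOf y = 13) (hzt : z * t = t * z) (hyt : y * t = t * y)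
    (hzy : z * y = y * z) (hp : (orderOf z).Prime) : orderOf z = 2 ∨ orderOf z = 13 := by
  by_cases h2 : orderOf z = 2
  · exact Or.inl h2
  right
  have hyC : y ∈ centralizer ({t} : Set (GG K)) := mem_centralizer_singleton_iff.2 hyt
  have hzC : z ∈ centralizer ({t} : Set (GG K)) := mem_centralizer_singleton_iff.2 hzt
  rcases Card.inv_cases_eight (SS c) (card8 c) rfl ht with ⟨-, k, hk⟩ | ⟨hcard, -⟩
  · rw [hk] at hyC hzC
    obtain ⟨p, hp', rfl⟩ := hyC
    obtain ⟨q, hq, rfl⟩ := hzC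
    have op : orderOf p = 13 := by rw [← hy]; exact (MulEquiv.orderOf_eq (MulAut.conj k) p).symm
    have oq : orderOf q = orderOf ((MulAut.conj k).toMonoidHom q) := (MulEquiv.orderOf_eq (MulAut.conj k) q).symm
    rw [← oq] at hp h2 ⊢
    refine PLFacts.PL_cent (SS c) (card8 c) rfl hp' hq op hp h2 ?_
    apply (MulAut.conj k).injective
    rw [map_mul, map_mul]
    exact hzy.symm
  · exfalso
    have h1 := Subgroup.orderOf_dvd_natCard _ hyC
    rw [hy, hcard] at h1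
    norm_num at h1

theorem a_PL : g c aW ∈ (SS c).PL := by
  unfold aW
  rw [tok_e, tok_e, g_nil, mul_one]
  exact mul_mem (X_le_J (k := 8) (by norm_num) le_rfl ((SS c).mX8 _ _)) (X_le_J (k := 0) le_rfl (by norm_num) ((SS c).e_mem 0 _ _))

/-- `C(x)` has odd order -/
theorem odd_Cx : Odd (Nat.card (centralizer ({g c xW} : Set (GG K)))) := by
  rw [← Nat.not_even_iff_odd]
  intro h
  obtain ⟨t, ht⟩ := exists_prime_orderOf_dvd_card' (G := centralizer ({g c xW} : Set (GG K))) 2 (even_iff_two_dvd.1 h)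
  have ht' : orderOf (t : GG K) = 2 := by rw [Subgroup.orderOf_coe, ht]
  have hxC : g c xW ∈ centralizer ({(t : GG K)} : Set (GG K)) :=
    mem_centralizer_singleton_iff.2 (mem_centralizer_singleton_iff.1 t.2).symm
  rcases Card.inv_cases_eight (SS c) (card8 c) rfl ht' with ⟨-, k, hk⟩ | ⟨hcard, -⟩
  · rw [hk] at hxC
    obtain ⟨p, hp', hpx⟩ := hxC
    have op : orderOf p = 13 := by rw [← ox c, ← hpx]; exact (MulEquiv.orderOf_eq (MulAut.conj k) p).symm
    obtain ⟨q, -, n, hq⟩ := PLFacts.PL_syl (SS c) (card8 c) hp' (a_PL c) op (oa c)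
    refine x_not_a c n ?_
    have h1 : IsConj p (g c xW) := isConj_iff.2 ⟨k, hpx⟩
    exact h1.symm.trans (isConj_iff.2 ⟨q, hq⟩)
  · have h1 := Subgroup.orderOf_dvd_natCard _ hxC
    rw [ox, hcard] at h1
    norm_num at h1

theorem v2 : g c [Tok.o 2 1] * g c [Tok.o 2 1] = 1 := by rw [← g_app, eqv c r_v2, g_nil]

theorem vx : g c [Tok.o 2 1] * g c xW * (g c [Tok.o 2 1])⁻¹ = (g c xW)⁻¹ := by
  have h := eqv c r_vx
  rw [g_app, g_app, g_app, g_nil] at h
  rw [inv_eq_of_mul_eq_one_left (v2 c)]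
  exact eq_inv_of_mul_eq_one_left h

theorem v_s6 : g c [Tok.o 2 1] = g c sW ^ 6 := by rw [s6, gv]

theorem cent_v : centralizer ({g c [Tok.o 2 1]} : Set (GG K)) = (SS c).HO := by
  rw [gv]
  exact (SS c).centralizer_o one_ne_zero

theorem d_s4 : g c dW = g c sW ^ 4 := by rw [s4, gd]

theorem od : orderOf (g c dW) = 3 := by
  have : Fact (Nat.Prime 3) := ⟨by norm_num⟩
  exact orderOf_eq_prime (by rw [← g_pw, eqv c r_d3, g_nil]) (nev c n_d)

theorem sx_pow {G : Type*} [Group G] {x s : G} (h : s * x * s⁻¹ = x ^ 2) (n : ℕ) : s ^ n * x * (s ^ n)⁻¹ = x ^ (2 ^ n) := by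
  induction n with
  | zero => rw [pow_zero, one_mul, inv_one, mul_one, pow_zero, pow_one]
  | succ n ih =>
    rw [pow_succ']
    calc s * s ^ n * x * (s * s ^ n)⁻¹ = s * (s ^ n * x * (s ^ n)⁻¹) * s⁻¹ := by group
      _ = (s * x * s⁻¹) ^ (2 ^ n) := by rw [ih, conj_pow]
      _ = _ := by rw [h, ← pow_mul, pow_succ']

theorem dx : g c dW * g c xW * (g c dW)⁻¹ = g c xW ^ 3 := by
  rw [d_s4, sx_pow (sx c) 4]
  have h : (2 : ℕ) ^ 4 = 13 + 3 := by norm_num
  rw [h, pow_add, x13, one_mul]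

/-- no fixed points of `v` on `C(x)` -/
theorem hfix (z : GG K) (hx : z * g c xW = g c xW * z) (hv : z * g c [Tok.o 2 1] = g c [Tok.o 2 1] * z) : z = 1 := by
  set D := centralizer ({g c xW} : Set (GG K)) ⊓ centralizer ({g c [Tok.o 2 1]} : Set (GG K)) with hD
  have hdv : g c dW * g c [Tok.o 2 1] = g c [Tok.o 2 1] * g c dW := by
    rw [d_s4, v_s6, ← pow_add, ← pow_add]
  have hDD : D = ⊥ := by
    refine HOFacts.odd_HO (SS c) (card8 c) rfl (D := D) ?_ ?_ (d := g c dW) ?_ (od c) ?_ ?_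
    · rw [← cent_v]; exact inf_le_right
    · exact Odd.of_dvd_nat (odd_Cx c) (Subgroup.card_dvd_of_le inf_le_left)
    · rw [← cent_v]
      exact mem_centralizer_singleton_iff.2 hdv
    · intro a ha
      obtain ⟨h1, h2⟩ := mem_inf.1 ha
      rw [mem_centralizer_singleton_iff] at h1 h2
      refine mem_inf.2 ⟨?_, ?_⟩
      · rw [mem_centralizer_singleton_iff]
        -- x = (d x d⁻¹) ^ 9
        have e : g c xW = g c dW * g c xW ^ 9 * (g c dW)⁻¹ := by
          rw [← conj_pow, dx, ← pow_mul]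
          have h : 3 * 9 = 13 * 2 + 1 := by norm_num
          rw [h, pow_add, pow_mul, x13, one_pow, one_mul, pow_one (g c xW)]
        have h9 : a * g c xW ^ 9 = g c xW ^ 9 * a := (Commute.pow_right (show Commute a (g c xW) from h1) 9).eq
        calc g c dW * a * (g c dW)⁻¹ * g c xW = g c dW * a * (g c dW)⁻¹ * (g c dW * g c xW ^ 9 * (g c dW)⁻¹) := by rw [← e]
          _ = g c dW * (a * g c xW ^ 9) * (g c dW)⁻¹ := by group
          _ = g c dW * (g c xW ^ 9 * a) * (g c dW)⁻¹ := by rw [h9]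
          _ = (g c dW * g c xW ^ 9 * (g c dW)⁻¹) * (g c dW * a * (g c dW)⁻¹) := by group
          _ = g c xW * (g c dW * a * (g c dW)⁻¹) := by rw [← e]
      · rw [mem_centralizer_singleton_iff]
        have hdv' : Commute (g c dW) (g c [Tok.o 2 1]) := hdv
        have h2' : Commute a (g c [Tok.o 2 1]) := h2
        exact ((hdv'.mul_left h2').mul_left hdv'.inv_left).eq
    · intro hd
      have h1 := mem_centralizer_singleton_iff.1 (mem_inf.1 hd).1
      have h2 := dx c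
      rw [h1, mul_inv_cancel_right] at h2
      have h3 : g c xW ^ 2 = 1 := by
        have h4 : g c xW * 1 = g c xW * g c xW ^ 2 := by rw [mul_one, ← pow_succ', ← h2]
        exact (mul_left_cancel h4).symm
      have h5 := orderOf_dvd_of_pow_eq_one h3
      rw [ox] at h5
      norm_num at h5
  have : z ∈ D := ⟨mem_centralizer_singleton_iff.2 hx, mem_centralizer_singleton_iff.2 hv⟩
  rw [hDD] at this
  exact mem_bot.1 this

/-! ### the centralizer of `x` -/

/-- the first element of order 13 -/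
noncomputable def y1 : GG K := g c g1W * g c aW * (g c g1W)⁻¹
/-- the second element of order 13 -/
noncomputable def y2 : GG K := g c g1W * g c bW * (g c g1W)⁻¹
/-- conjugate involution -/
noncomputable def t1 : GG K := g c g1W * g c [Tok.e 4 0 1] * (g c g1W)⁻¹
/-- conjugate involution -/
noncomputable def t2 : GG K := g c g1W * g c [Tok.e 6 0 1] * (g c g1W)⁻¹

theorem oy1 : orderOf (y1 c) = 13 := by
  rw [← oa c]
  exact MulEquiv.orderOf_eq (MulAut.conj (g c g1W)) _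

theorem oy2 : orderOf (y2 c) = 13 := by
  rw [← ob c]
  exact MulEquiv.orderOf_eq (MulAut.conj (g c g1W)) _

theorem y12 : y1 c * y2 c = y2 c * y1 c := by
  unfold y1 y2
  have h := hab c
  calc g c g1W * g c aW * (g c g1W)⁻¹ * (g c g1W * g c bW * (g c g1W)⁻¹) = g c g1W * (g c aW * g c bW) * (g c g1W)⁻¹ := by
        group
    _ = _ := by rw [h]; group

theorem y_ij (i j : ℕ) : y1 c ^ i * y2 c ^ j = g c g1W * (g c aW ^ i * g c bW ^ j) * (g c g1W)⁻¹ := by
  unfold y1 y2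
  rw [conj_pow, conj_pow]
  group

theorem xy : g c xW = y1 c * y2 c ^ 2 := by
  have h := eqv c r_g1
  rw [g_app, g_app, g_app, g_pw] at h
  have h2 := y_ij c 1 2
  rw [pow_one (y1 c), pow_one (g c aW)] at h2
  rw [h2, ← mul_assoc, h, mul_inv_cancel_right]

theorem conj_mul_conj {G : Type*} [Group G] (k a b : G) : k * a * k⁻¹ * (k * b * k⁻¹) = k * (a * b) * k⁻¹ := by group

theorem t12 : g c [Tok.e 4 0 1] * g c [Tok.e 4 0 1] = 1 := by rw [← g_app, eqv c r_t1, g_nil]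
theorem t22 : g c [Tok.e 6 0 1] * g c [Tok.e 6 0 1] = 1 := by rw [← g_app, eqv c r_t2, g_nil]

theorem ot1 : orderOf (t1 c) = 2 := by
  have : Fact (Nat.Prime 2) := ⟨Nat.prime_two⟩
  have h : orderOf (g c [Tok.e 4 0 1]) = 2 := orderOf_eq_prime (by rw [pow_two, t12]) (nev c n_t1)
  exact (MulEquiv.orderOf_eq (MulAut.conj (g c g1W)) _).trans h

theorem ot2 : orderOf (t2 c) = 2 := by
  have : Fact (Nat.Prime 2) := ⟨Nat.prime_two⟩
  have h : orderOf (g c [Tok.e 6 0 1]) = 2 := orderOf_eq_prime (by rw [pow_two, t22]) (nev c n_t2)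
  exact (MulEquiv.orderOf_eq (MulAut.conj (g c g1W)) _).trans h

theorem t1y1 : t1 c * y1 c * (t1 c)⁻¹ = (y1 c)⁻¹ := by
  have h := eqv c r_t1a
  rw [g_app, g_app, g_app, g_nil] at h
  have e : t1 c * t1 c = 1 := by
    unfold t1
    rw [conj_mul_conj, t12, mul_one, mul_inv_cancel]
  rw [inv_eq_of_mul_eq_one_left e]
  refine eq_inv_of_mul_eq_one_left ?_
  unfold t1 y1
  rw [conj_mul_conj, conj_mul_conj, conj_mul_conj, h, mul_one, mul_inv_cancel]

theorem t2y2 : t2 c * y2 c * (t2 c)⁻¹ = (y2 c)⁻¹ := by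
  have h := eqv c r_t2b
  rw [g_app, g_app, g_app, g_nil] at h
  have e : t2 c * t2 c = 1 := by
    unfold t2
    rw [conj_mul_conj, t22, mul_one, mul_inv_cancel]
  rw [inv_eq_of_mul_eq_one_left e]
  refine eq_inv_of_mul_eq_one_left ?_
  unfold t2 y2
  rw [conj_mul_conj, conj_mul_conj, conj_mul_conj, h, mul_one, mul_inv_cancel]

theorem t1y2 : t1 c * y2 c = y2 c * t1 c := by
  have h := eqv c r_t1b
  rw [g_app, g_app] at h
  unfold t1 y2
  rw [conj_mul_conj, conj_mul_conj, h]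

theorem t2y1 : t2 c * y1 c = y1 c * t2 c := by
  have h := eqv c r_t2a
  rw [g_app, g_app] at h
  unfold t2 y1
  rw [conj_mul_conj, conj_mul_conj, h]

theorem y_nmem : y2 c ∉ Subgroup.zpowers (y1 c) := by
  intro h
  -- `t1` inverts `y1` and centralises `y2`
  obtain ⟨k, hk⟩ := mem_zpowers_iff.1 h
  have h1 : t1 c * y2 c * (t1 c)⁻¹ = (y2 c)⁻¹ := by
    rw [← hk, ← conj_zpow, t1y1, inv_zpow]
  rw [t1y2, mul_inv_cancel_right] at h1
  have h2 : y2 c ^ 2 = 1 := by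
    rw [pow_two]
    nth_rewrite 2 [h1]
    exact mul_inv_cancel _
  have h5 := orderOf_dvd_of_pow_eq_one h2
  rw [oy2] at h5
  norm_num at h5

include c in
theorem not13 : ¬ 13 ^ 3 ∣ Nat.card (GG K) := by
  rw [c.hcard]
  norm_num

theorem centx : Nat.card (centralizer ({g c xW} : Set (GG K))) = 13 ^ 2 ∧
    (∀ z : GG K, z * g c xW = g c xW * z → g c [Tok.o 2 1] * z * (g c [Tok.o 2 1])⁻¹ = z⁻¹) ∧
      (∀ z : GG K, z * g c xW = g c xW * z → ∃ i j : ℕ, z = y1 c ^ i * y2 c ^ j) :=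
  Cfsg.Agent.H47.TFour.cent (not13 c) (odd_Cx c) (v2 c) (vx c) (hfix c) (y12 c) (oy1 c) (oy2 c) (y_nmem c) (xy c)
    (t1y1 c) (t1y2 c) (t2y2 c) (t2y1 c)
    (fun _ h1 h2 hp => prime_cent c (ot1 c) (oy2 c) h1 (t1y2 c).symm h2 hp)
    (fun _ h1 h2 hp => prime_cent c (ot2 c) (oy1 c) h1 (t2y1 c).symm h2 hp)
    (by unfold t1; rw [conj_mul_conj, t12, mul_one, mul_inv_cancel])
    (by unfold t2; rw [conj_mul_conj, t22, mul_one, mul_inv_cancel])

theorem hCx_iff (z : GG K) : z * g c xW = g c xW * z ↔ ∃ i j : ℕ, z = y1 c ^ i * y2 c ^ j := by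
  refine ⟨(centx c).2.2 z, ?_⟩
  rintro ⟨i, j, rfl⟩
  rw [xy]
  have h : Commute (y1 c) (y2 c) := y12 c
  exact (((Commute.refl (y1 c)).pow_left i).mul_right (h.pow_pow i 2)).mul_left
    ((h.symm.pow_left j).mul_right ((Commute.refl (y2 c)).pow_pow j 2)) |>.eq

theorem y_iff (i j : ℕ) : IsConj (g c xW) (y1 c ^ i * y2 c ^ j) ↔
    (¬ 13 ∣ i ∧ ¬ 13 ∣ j ∧ ¬ (i ^ 4 ≡ j ^ 4 [MOD 13])) := by
  rw [← x_iff c]
  have h : IsConj (g c aW ^ i * g c bW ^ j) (y1 c ^ i * y2 c ^ j) := isConj_iff.2 ⟨g c g1W, (y_ij c i j).symm⟩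
  exact ⟨fun h' => h'.trans h.symm, fun h' => h'.trans h⟩

theorem hN : Nat.card (normalizer (centralizer ({g c xW} : Set (GG K)) : Set (GG K))) ∣ 13 ^ 2 * 96 :=
  Cfsg.Agent.H47.TFour.card_dvd (y12 c) (oy1 c) (oy2 c) (y_nmem c) (hCx_iff c) (y_iff c)

/-- elements of order 13 which are conjugate to their fourth power -/
theorem hrat (y : GG K) (hy : orderOf y = 13) (h : IsConj y (y ^ 4)) : IsConj (g c xW) y := by
  have : Fact (Nat.Prime 13) := ⟨by norm_num⟩
  have hC := (centx c).1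
  have hind : ¬ 13 ∣ (centralizer ({g c xW} : Set (GG K))).index := by
    intro hd
    apply not13 c
    rw [← (centralizer ({g c xW} : Set (GG K))).card_mul_index, hC, pow_succ]
    exact Nat.mul_dvd_mul_left _ hd
  let P : Sylow 13 (GG K) := (IsPGroup.of_card (n := 2) (G := centralizer ({g c xW} : Set (GG K))) (p := 13) hC).toSylow hind
  have hyp : IsPGroup 13 (zpowers y) := IsPGroup.of_card (n := 1) (by rw [Nat.card_zpowers, hy, pow_one])
  obtain ⟨Q, hQ⟩ := hyp.exists_le_sylow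
  obtain ⟨k, hk⟩ := MulAction.exists_smul_eq (GG K) Q P
  have hy1 : k * y * k⁻¹ ∈ centralizer ({g c xW} : Set (GG K)) := by
    have h1 : k * y * k⁻¹ ∈ ((k • Q : Sylow 13 (GG K)) : Subgroup (GG K)) := by
      rw [Sylow.coe_subgroup_smul]
      exact ⟨y, hQ (mem_zpowers y), rfl⟩
    rw [hk] at h1
    exact h1
  obtain ⟨i, j, hij⟩ := (hCx_iff c _).1 (mem_centralizer_singleton_iff.1 hy1)
  have h2 : IsConj (g c aW ^ i * g c bW ^ j) y := by
    have h3 : IsConj (g c aW ^ i * g c bW ^ j) (y1 c ^ i * y2 c ^ j) := isConj_iff.2 ⟨g c g1W, (y_ij c i j).symm⟩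
    rw [← hij] at h3
    exact h3.trans (isConj_iff.2 ⟨k, rfl⟩ : IsConj y (k * y * k⁻¹)).symm
  have h0 : ¬ (13 ∣ i ∧ 13 ∣ j) := by
    rintro ⟨hi, hj⟩
    rw [ab_one c hi hj] at h2
    obtain ⟨n, hn⟩ := isConj_iff.1 h2
    rw [mul_one, mul_inv_cancel] at hn
    rw [← hn, orderOf_one] at hy
    norm_num at hy
  exact (of_rat c h0 ((h2.trans h).trans (isConj_pow' 4 h2).symm)).trans h2

theorem hv : ¬ 13 ∣ Nat.card (centralizer ({g c sW ^ 6} : Set (GG K))) := by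
  rw [← v_s6, cent_v, Card.card_HO (SS c) (card8 c)]
  norm_num

include c in
theorem h35 (t a b : GG K) (ht : orderOf t = 2) (ha : orderOf a = 3) (hb : orderOf b = 5) (hta : t * a = a * t) :
    t * b ≠ b * t := by
  intro htb
  have haC : a ∈ centralizer ({t} : Set (GG K)) := mem_centralizer_singleton_iff.2 hta.symm
  have hbC : b ∈ centralizer ({t} : Set (GG K)) := mem_centralizer_singleton_iff.2 htb.symm
  have h1 := Subgroup.orderOf_dvd_natCard _ haC
  have h2 := Subgroup.orderOf_dvd_natCard _ hbC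
  rcases Card.inv_cases_eight (SS c) (card8 c) rfl ht with ⟨hc, -⟩ | ⟨hc, -⟩
  · rw [ha, hc] at h1
    norm_num at h1
  · rw [hb, hc] at h2
    norm_num at h2

end Cfsg.Agent.H857.Ree8.Facts3
end

private theorem dce_aa8cd747317c : _root_.True := by
  try have : _root_.True := by simp only [_root_.Cfsg.Agent.H857.Ree8.Facts.g.congr_simp]
  try have : _root_.True := by simp only [_root_.Cfsg.Agent.H857.Ree8.Code.bk.eq_1]
  try have : _root_.True := by simp only [_root_.Cfsg.Agent.H519.TwFE.nf.eq_1]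
  try have : _root_.True := by simp only [_root_.Cfsg.Agent.H857.Ree8.Code.th.eq_1]
  try have : _root_.True := by simp only [_root_.Cfsg.Agent.H857.Ree8.Code.sm.eq_1]
  try have : _root_.True := by simp only [_root_.Cfsg.Agent.H519.TwFE.dd.eq_1]
  try have : _root_.True := by simp only [_root_.Cfsg.Agent.H857.Ree8.Word.inv1.eq_2]
  try have : _root_.True := by simp only [_root_.Cfsg.Agent.H519.TwFE.ww.eq_1]
  try have : _root_.True := by simp only [_root_.Cfsg.Agent.H857.Ree8.Code.co.eq_1]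
  try have : _root_.True := by simp only [_root_.Cfsg.Agent.H519.TwFE.gEg.eq_1]
  try have : _root_.True := by simp only [_root_.Cfsg.Agent.H857.Ree8.Word.ok1.eq_1]
  try have : _root_.True := by simp only [_root_.Cfsg.Agent.H857.Ree8.Word.ok1.eq_2]
  try have : _root_.True := by simp only [_root_.Cfsg.Agent.H857.Ree8.Word.pw.eq_1]
  try have : _root_.True := by simp only [_root_.Cfsg.Agent.H857.Ree8.Word.pw.eq_def]
  try have : _root_.True := by simp only [_root_.Cfsg.Agent.H857.Ree8.Word.pw.eq_2]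
  try have : _root_.True := by simp only [_root_.Cfsg.Agent.H519.TwFE.gE.eq_1]
  try have : _root_.True := by simp only [_root_.Cfsg.Agent.H857.Ree8.Code.th.eq_2]
  try have : _root_.True := by simp only [_root_.Cfsg.Agent.H857.Ree8.Code.gf.eq_1]
  try have : _root_.True := by simp only [_root_.Cfsg.Agent.H857.Ree8.Code.sm.eq_2]
  try have : _root_.True := by simp only [_root_.Cfsg.Agent.H857.Ree8.Word.inv1.eq_1]
  try have : _root_.True := by simp only [_root_.Cfsg.Agent.H857.Ree8.Code.mv.eq_1]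
  try have : _root_.True := by simp only [_root_.Cfsg.Agent.H857.Ree8.Code.sp.eq_1]
  exact _root_.True.intro
end
end
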